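import Mathlib

/-!
Lifting of representations of `p'`-groups over a finite field of characteristic `p` to
characteristic zero (Witt vectors), by iterated averaging.
-/

set_option autoImplicit false

namespace Cfsg.Agent.SU3Geo98.Lift

universe u

open Matrix

section Avg

variable {W : Type*} [CommRing W] {n : ℕ} {G : Type*} [Group G] [Fintype G]

/-- One step of the averaging iteration. -/
theorem avg_step (u : W) (hu : (Fintype.card G : W) * u = 1) (c : W)
    (s : G → Matrix (Fin n) (Fin n) W) (hs : ∀ g, IsUnit (s g).det)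
    (h : ∀ g k, ∃ C, s (g * k) - s g * s k = c • C) :
    ∃ s' : G → Matrix (Fin n) (Fin n) W, (∀ g, ∃ C, s' g - s g = c • C) ∧
      ∀ g k, ∃ C, s' (g * k) - s' g * s' k = (c * c) • C := by
  choose C hC using h
  let x : G → G → Matrix (Fin n) (Fin n) W := fun g l => s (g * l) * (s l)⁻¹
  let X : G → G → Matrix (Fin n) (Fin n) W := fun g l => C g l * (s l)⁻¹
  have hx : ∀ g l, x g l = s g + c • X g l := fun g l => by
    simp only [x, X]
    rw [← Matrix.smul_mul, ← hC, sub_mul, Matrix.mul_assoc, Matrix.mul_nonsing_inv _ (hs l),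
      Matrix.mul_one]
    abel
  let Y : G → Matrix (Fin n) (Fin n) W := fun g => u • ∑ l, X g l
  have hsum : ∀ g, u • ∑ l, x g l = s g + c • Y g := fun g => by
    simp only [hx, Finset.sum_add_distrib, smul_add, Finset.sum_const, Finset.card_univ, Y,
      ← Finset.smul_sum]
    rw [← Nat.cast_smul_eq_nsmul W, smul_smul, mul_comm u, hu, one_smul, smul_comm]
  refine ⟨fun g => u • ∑ l, x g l, fun g => ⟨Y g, by
    show u • ∑ l, x g l - s g = c • Y g
    rw [hsum]; abel⟩, fun g k => ?_⟩
  refine ⟨u • (∑ m, X g (k * m) * X k m) - Y g * Y k, ?_⟩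
  have hY : u • (∑ m, X g (k * m)) = Y g := by
    simp only [Y]
    congr 1
    exact Fintype.sum_equiv (Equiv.mulLeft k) _ (fun l => X g l) fun _ => rfl
  have hprod : u • ∑ l, x (g * k) l = u • ∑ m, x g (k * m) * x k m := by
    congr 1
    refine Finset.sum_congr rfl fun m _ => ?_
    simp only [x]
    rw [Matrix.mul_assoc, Matrix.nonsing_inv_mul_cancel_left _ _ (hs _), mul_assoc g]
  dsimp only
  rw [hprod, hsum g, hsum k]
  simp only [hx, add_mul, mul_add, Matrix.smul_mul, Matrix.mul_smul, smul_smul,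
    Finset.sum_add_distrib, smul_add, Finset.sum_const, Finset.card_univ, ← Finset.smul_sum,
    ← Finset.mul_sum, ← Finset.sum_mul]
  rw [← Nat.cast_smul_eq_nsmul W, smul_smul, mul_comm u, hu, one_smul]
  rw [show (u * c) • ((∑ m, X g (k * m)) * s k) = c • (Y g * s k) by
    rw [← hY, Matrix.smul_mul, smul_smul, mul_comm]]
  rw [show (u * c) • (s g * ∑ m, X k m) = c • (s g * Y k) by
    simp only [Y, Matrix.mul_smul, smul_smul, mul_comm]]
  simp only [smul_sub, smul_smul]
  rw [show u * (c * c) = c * c * u by ring]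
  abel

end Avg

section Complete

variable {W : Type*} [CommRing W] {K : Type*} [Field K] {n : ℕ} {G : Type*} [Group G] [Finite G]

/-- Lifting through a complete local surjection. -/
theorem exists_lift_complete (π : W →+* K) (hπ : Function.Surjective π) (c : W)
    (hdvd : ∀ x, c ∣ x ↔ π x = 0) (hunit : ∀ x, IsUnit x ↔ π x ≠ 0)
    (hpre : IsPrecomplete (Ideal.span {c}) W) (hhaus : IsHausdorff (Ideal.span {c}) W)
    (hG : (Nat.card G : K) ≠ 0) (φ : G →* GL (Fin n) K) :
    ∃ ψ : G →* GL (Fin n) W, (Matrix.GeneralLinearGroup.map π).comp ψ = φ := by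
  classical
  have : Fintype G := Fintype.ofFinite G
  have hmap : ∀ {A B : Matrix (Fin n) (Fin n) (W)} {k : ℕ}, 1 ≤ k →
      (∃ C, A - B = c ^ k • C) → A.map π = B.map π := by
    rintro A B k hk ⟨C, hC⟩
    ext i j
    rw [Matrix.map_apply, Matrix.map_apply, ← sub_eq_zero, ← map_sub, ← hdvd,
      show A i j - B i j = c ^ k * C i j from congrFun (congrFun hC i) j]
    exact (dvd_pow_self _ (by omega)).mul_right _
  obtain ⟨u, hu⟩ : ∃ u : W, (Fintype.card G : W) * u = 1 := by
    refine (hunit _).2 ?_ |>.exists_right_inv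
    rw [map_natCast, ← Nat.card_eq_fintype_card]
    exact hG
  have hdet : ∀ (A : Matrix (Fin n) (Fin n) (W)) (g : G), A.map π = φ g → IsUnit A.det := by
    intro A g hA
    rw [hunit, RingHom.map_det, RingHom.mapMatrix_apply, hA]
    exact ((Matrix.isUnit_iff_isUnit_det _).1 (φ g).isUnit).ne_zero
  let P : ℕ → (G → Matrix (Fin n) (Fin n) (W)) → Prop := fun k s =>
    (∀ g, (s g).map π = φ g) ∧ ∀ g h, ∃ C, s (g * h) - s g * s h = c ^ (k + 1) • C
  have hstep : ∀ k (s : {s // P k s}), ∃ t : {t // P (k + 1) t},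
      ∀ g, ∃ C, t.1 g - s.1 g = c ^ (k + 1) • C := by
    rintro k ⟨s, hs1, hs2⟩
    obtain ⟨t, ht1, ht2⟩ := avg_step u hu _ s (fun g => hdet _ g (hs1 g)) hs2
    refine ⟨⟨t, fun g => (hmap (by omega) (ht1 g)).trans (hs1 g), fun g h => ?_⟩, ht1⟩
    obtain ⟨C, hC⟩ := ht2 g h
    exact ⟨c ^ k • C, by rw [hC, smul_smul, ← pow_add, ← pow_add]; congr 2; omega⟩
  choose T hT using hstep
  obtain ⟨s₀, hs₀⟩ : ∃ s₀ : G → Matrix (Fin n) (Fin n) (W), P 0 s₀ := by
    let s₀ : G → Matrix (Fin n) (Fin n) (W) := fun g =>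
      (φ g : Matrix (Fin n) (Fin n) K).map (Function.surjInv hπ)
    have h0 : ∀ g, (s₀ g).map π = φ g := fun g => by
      ext i j; exact Function.surjInv_eq hπ _
    refine ⟨s₀, h0, fun g h => ?_⟩
    have hz : ∀ i j, ∃ d, (s₀ (g * h) - s₀ g * s₀ h) i j = c ^ (0 + 1) * d := fun i j => by
      rw [pow_one]
      refine (hdvd _).2 ?_
      rw [← Matrix.map_apply (f := π) (M := s₀ (g * h) - s₀ g * s₀ h) (i := i) (j := j)]
      rw [← RingHom.mapMatrix_apply, map_sub, map_mul]
      simp only [RingHom.mapMatrix_apply, h0, map_mul, Units.val_mul, sub_self, Matrix.zero_apply]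
    choose C hC using hz
    exact ⟨Matrix.of C, Matrix.ext fun i j => hC i j⟩
  let seq : ∀ k, {s // P k s} := fun k => Nat.rec ⟨s₀, hs₀⟩ (fun k s => T k s) k
  have hd : ∀ k g, ∃ C, (seq (k + 1)).1 g - (seq k).1 g = c ^ (k + 1) • C :=
    fun k g => hT k (seq k) g
  -- the entrywise limit
  let I : Ideal (W) := Ideal.span {c}
  have hI : ∀ (k : ℕ) (x y : W),
      x ≡ y [SMOD (I ^ k • ⊤ : Ideal (W))] ↔ c ^ k ∣ x - y := fun k x y => by
    rw [SModEq.sub_mem, smul_eq_mul, Ideal.mul_top, Ideal.span_singleton_pow,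
      Ideal.mem_span_singleton]
  have hchain : ∀ g i j m k, m ≤ k →
      c ^ (m + 1) ∣ (seq k).1 g i j - (seq m).1 g i j := by
    intro g i j m k hmk
    induction k, hmk using Nat.le_induction with
    | base => simp
    | succ k hmk ih =>
      obtain ⟨C, hC⟩ := hd k g
      have h1 : c ^ (m + 1) ∣ (seq (k + 1)).1 g i j - (seq k).1 g i j := by
        rw [show (seq (k + 1)).1 g i j - (seq k).1 g i j = c ^ (k + 1) * C i j from
          congrFun (congrFun hC i) j]
        exact (pow_dvd_pow _ (by omega)).mul_right _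
      have := dvd_add h1 ih
      rwa [sub_add_sub_cancel] at this
  have hlim : ∀ g i j, ∃ L : W, ∀ k, c ^ k ∣ (seq k).1 g i j - L := by
    intro g i j
    obtain ⟨L, hL⟩ := IsPrecomplete.prec (I := I) hpre
      (f := fun k => (seq k).1 g i j) (fun {m k} hmk => by
        refine (hI _ _ _).2 ?_
        rw [← dvd_neg, neg_sub]
        exact (pow_dvd_pow _ m.le_succ).trans (hchain g i j m k hmk))
    exact ⟨L, fun k => (hI _ _ _).1 (hL k)⟩
  choose L hL using hlim
  let ψ : G → Matrix (Fin n) (Fin n) (W) := fun g => Matrix.of (L g)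
  have hψk : ∀ k g, ∃ C, (seq k).1 g - ψ g = c ^ k • C := fun k g => by
    choose C hC using fun i j => hL g i j k
    exact ⟨Matrix.of C, Matrix.ext fun i j => hC i j⟩
  have hψπ : ∀ g, (ψ g).map π = φ g := fun g =>
    (hmap (le_refl 1) (hψk 1 g)).symm.trans ((seq 1).2.1 g)
  have hmul : ∀ g h, ψ (g * h) = ψ g * ψ h := by
    intro g h
    refine Matrix.ext fun i j => ?_
    rw [← sub_eq_zero]
    refine IsHausdorff.haus (I := I) hhaus _ fun k => ?_
    refine (hI _ _ _).2 ?_
    obtain ⟨A, hA⟩ := hψk k (g * h)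
    obtain ⟨B, hB⟩ := hψk k g
    obtain ⟨D, hD⟩ := hψk k h
    obtain ⟨E, hE⟩ := (seq k).2.2 g h
    refine ⟨(c • E - A + B * (seq k).1 h + ψ g * D) i j, ?_⟩
    have : ψ (g * h) - ψ g * ψ h =
        c ^ k • (c • E - A + B * (seq k).1 h + ψ g * D) := by
      rw [smul_add, smul_add, smul_sub, smul_smul, ← pow_succ, ← hA, ← hE, ← Matrix.smul_mul, ← hB,
        ← Matrix.mul_smul, ← hD, sub_mul, mul_sub]
      abel
    rw [sub_zero, ← Matrix.sub_apply, this]
    rfl
  have hone : ψ 1 = 1 := by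
    have h := hmul 1 1
    rw [one_mul] at h
    obtain ⟨v, hv⟩ := (Matrix.isUnit_iff_isUnit_det _).2 (hdet _ 1 (hψπ 1))
    rw [← hv] at h ⊢
    exact v.isUnit.mul_left_cancel (h.symm.trans (mul_one _).symm)
  exact ⟨(MonoidHom.mk ⟨ψ, hone⟩ hmul : G →* Matrix (Fin n) (Fin n) (W)).toHomUnits,
    MonoidHom.ext fun g => Units.ext (hψπ g)⟩


end Complete

variable {p : ℕ} [hp : Fact p.Prime] {F : Type u} [Field F] [Finite F] [CharP F p] {n : ℕ}

local notation "𝕎" => WittVector p

theorem pnz : (p : 𝕎 F) ≠ 0 := WittVector.p_nonzero p F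

theorem dvd_iff_const (x : 𝕎 F) : (p : 𝕎 F) ∣ x ↔ WittVector.constantCoeff x = 0 := by
  rw [← Ideal.mem_span_singleton, ← WittVector.ker_constantCoeff, RingHom.mem_ker]

theorem isUnit_iff_const (x : 𝕎 F) : IsUnit x ↔ WittVector.constantCoeff x ≠ 0 := by
  refine ⟨fun h => (h.map WittVector.constantCoeff).ne_zero, fun h => ?_⟩
  exact WittVector.isUnit_of_coeff_zero_ne_zero x h

instance charZero_witt : CharZero (𝕎 F) := by
  rcases CharP.char_is_prime_or_zero (𝕎 F) (ringChar (𝕎 F)) with h | h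
  · exfalso
    have h0 : ((ringChar (𝕎 F) : ℕ) : 𝕎 F) = 0 := CharP.cast_eq_zero _ _
    have h1 := congrArg (WittVector.constantCoeff (p := p) (R := F)) h0
    rw [map_natCast, map_zero, CharP.cast_eq_zero_iff F p] at h1
    rw [← (Nat.prime_dvd_prime_iff_eq hp.out h).1 h1] at h0
    exact pnz h0
  · exact (CharP.ringChar_zero_iff_CharZero _).1 h

variable {G : Type*} [Group G] [Finite G]

/-- A representation of a `p'`-group over a finite field of characteristic `p` lifts to the Witt
vectors. -/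
theorem exists_lift (hG : ¬ p ∣ Nat.card G) (φ : G →* GL (Fin n) F) :
    ∃ ψ : G →* GL (Fin n) (𝕎 F),
      (Matrix.GeneralLinearGroup.map (WittVector.constantCoeff (p := p) (R := F))).comp ψ = φ :=
  exists_lift_complete _ (WittVector.constantCoeff_surjective p) (p : 𝕎 F) dvd_iff_const
    isUnit_iff_const inferInstance inferInstance
    (fun h => hG ((CharP.cast_eq_zero_iff F p _).1 h)) φ

/-- A lift over a domain detects scalars: if the reduction of `g` is scalar, then the lift is. -/
theorem scalar_of_map (ψ : G →* GL (Fin n) (𝕎 F)) (hG : ¬ p ∣ Nat.card G) {g : G} {c : F}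
    (hg : ((ψ g : Matrix (Fin n) (Fin n) (𝕎 F))).map WittVector.constantCoeff = c • 1) :
    (ψ g : Matrix (Fin n) (Fin n) (𝕎 F)) = WittVector.teichmuller p c • 1 := by
  classical
  rcases isEmpty_or_nonempty (Fin n) with hn | hn
  · ext i; exact isEmptyElim i
  obtain ⟨i₀⟩ := hn
  set A := (ψ g : Matrix (Fin n) (Fin n) (𝕎 F)) with hA
  let π : 𝕎 F →+* F := WittVector.constantCoeff
  have hgm : A ^ Nat.card G = 1 := by
    rw [hA, ← Units.val_pow_eq_pow_val, ← map_pow, pow_card_eq_one', map_one, Units.val_one]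
  have hc : c ^ Nat.card G = 1 := by
    have h1 := congrArg π.mapMatrix hgm
    rw [map_pow, map_one, RingHom.mapMatrix_apply, hg, _root_.smul_pow, one_pow] at h1
    simpa using congrFun (congrFun h1 i₀) i₀
  have hz : WittVector.teichmuller p c ^ Nat.card G = (1 : 𝕎 F) := by rw [← map_pow, hc, map_one]
  set z := WittVector.teichmuller p c with hzdef
  have hN : 1 ≤ Nat.card G := Nat.card_pos
  set N := Nat.card G with hNdef
  have hcomm : Commute A (z • 1) := (Commute.one_right A).smul_right z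
  have hgeom := hcomm.geom_sum₂_mul N
  rw [hgm, _root_.smul_pow, hz, one_pow, one_smul, sub_self] at hgeom
  have hu : IsUnit (∑ i ∈ Finset.range N, A ^ i * (z • 1) ^ (N - 1 - i)) := by
    refine (Matrix.isUnit_iff_isUnit_det _).2 ((isUnit_iff_const _).2 ?_)
    rw [RingHom.map_det, map_sum]
    have : ∀ i ∈ Finset.range N,
        π.mapMatrix (A ^ i * (z • 1) ^ (N - 1 - i)) = c ^ (N - 1) • (1 : Matrix (Fin n) (Fin n) F) := by
      intro i hi
      rw [Finset.mem_range] at hi
      rw [map_mul, map_pow, map_pow, RingHom.mapMatrix_apply, hg, RingHom.mapMatrix_apply,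
        Matrix.map_smul' _ _ _ (map_mul π), Matrix.map_one _ (map_zero π) (map_one π),
        show π z = c from WittVector.teichmuller_coeff_zero p c, _root_.smul_pow, _root_.smul_pow,
        one_pow, one_pow, Matrix.smul_mul, one_mul, smul_smul, ← pow_add]
      congr 2
      omega
    rw [Finset.sum_congr rfl this, Finset.sum_const, Finset.card_range, ← Nat.cast_smul_eq_nsmul F,
      smul_smul, Matrix.det_smul, Matrix.det_one, mul_one]
    refine pow_ne_zero _ (mul_ne_zero ?_ (pow_ne_zero _ ?_))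
    · rw [Ne, CharP.cast_eq_zero_iff F p]; exact hG
    · rintro rfl; rw [zero_pow (by omega)] at hc; exact zero_ne_one hc
  exact sub_eq_zero.1 (hu.mul_left_cancel (by rw [hgeom, mul_zero]))

open Cardinal in
/-- The Witt vectors of a finite field embed in the complex numbers. -/
theorem exists_embedding_complex : ∃ ι : 𝕎 F →+* ℂ, Function.Injective ι := by
  let K := AlgebraicClosure (FractionRing (𝕎 F))
  have hW : #(𝕎 F) = 𝔠 := by
    have e : 𝕎 F ≃ (ℕ → F) :=
      ⟨WittVector.coeff, WittVector.mk p, fun x => by ext; rfl, fun x => rfl⟩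
    have : Fintype F := Fintype.ofFinite F
    rw [Cardinal.mk_congr e, Cardinal.mk_arrow, Cardinal.mk_fintype, Cardinal.mk_nat,
      Cardinal.lift_natCast, Cardinal.lift_aleph0, Cardinal.nat_power_aleph0]
    exact Fintype.one_lt_card
  have hFr : #(FractionRing (𝕎 F)) = 𝔠 := by rw [IsFractionRing.cardinalMk (R := 𝕎 F), hW]
  have hK : #K = 𝔠 := by
    refine le_antisymm ((Algebra.IsAlgebraic.cardinalMk_le_max (FractionRing (𝕎 F)) K).trans ?_) ?_
    · rw [hFr]; exact max_le le_rfl aleph0_le_continuum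
    · rw [← hFr]
      exact Cardinal.mk_le_of_injective (algebraMap (FractionRing (𝕎 F)) K).injective
  have : CharZero (FractionRing (𝕎 F)) := IsFractionRing.charZero (R := 𝕎 F)
  have : CharZero K :=
    charZero_of_injective_algebraMap (algebraMap (FractionRing (𝕎 F)) K).injective
  obtain ⟨e⟩ : Nonempty (K ≃+* ℂ) := by
    refine IsAlgClosed.ringEquiv_of_equiv_of_charZero ?_ ?_
    · rw [hK]; exact aleph0_lt_continuum
    · refine Cardinal.lift_mk_eq'.1 ?_
      rw [hK, Cardinal.mk_complex, Cardinal.lift_continuum, Cardinal.lift_continuum]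
  exact ⟨(e.toRingHom.comp (algebraMap (FractionRing (𝕎 F)) K)).comp
      (algebraMap (𝕎 F) (FractionRing (𝕎 F))),
    (e.injective.comp (algebraMap (FractionRing (𝕎 F)) K).injective).comp
      (IsFractionRing.injective (𝕎 F) _)⟩

/-- Packaged form: a characteristic zero domain with a reduction map and a complex embedding. -/
theorem exists_lift_complex (hG : ¬ p ∣ Nat.card G) (φ : G →* GL (Fin n) F) :
    ∃ (O : Type u) (_ : CommRing O) (π : O →+* F) (ι : O →+* ℂ) (ψ : G →* GL (Fin n) O),
      Function.Injective ι ∧ Function.Surjective π ∧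
      (Matrix.GeneralLinearGroup.map π).comp ψ = φ ∧
      ∀ (g : G) (c : F), (φ g : Matrix (Fin n) (Fin n) F) = c • 1 →
        ∃ z : O, π z = c ∧ (ψ g : Matrix (Fin n) (Fin n) O) = z • 1 := by
  obtain ⟨ψ, hψ⟩ := exists_lift hG φ
  obtain ⟨ι, hι⟩ := exists_embedding_complex (p := p) (F := F)
  refine ⟨WittVector p F, inferInstance, WittVector.constantCoeff, ι, ψ, hι,
    WittVector.constantCoeff_surjective p, hψ, fun g c hg =>
    ⟨WittVector.teichmuller p c, WittVector.teichmuller_coeff_zero p c, scalar_of_map ψ hG ?_⟩⟩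
  rw [← hg, ← hψ]
  rfl

end Cfsg.Agent.SU3Geo98.Lift
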