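import Cfsg.Agent.MaxSub.HermStabStd
import Cfsg.Agent.SU4Geo98.Stab

/-!
The transvection engine in `SU₃`: three centres in general position give all centres.  Stabilisers
of isotropic and of non-isotropic points are maximal (helper98, S5777).
-/

set_option autoImplicit false
set_option linter.unusedSectionVars false

namespace Cfsg.Agent.SU3Geo98

open Matrix Cfsg.Agent.MaxSub Cfsg.Agent.HermStab

section Core

variable {ι : Type} [Fintype ι] [DecidableEq ι] {F : Type*} [Field F] [Finite F]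
variable {σ : F ≃+* F} {f : (ι → F) → (ι → F) → F} {M : Subgroup (GL ι F)}
variable (hf : Geo.IsUnitaryForm σ f)
include hf

/-- A non-zero vector orthogonal to two given ones. -/
theorem exists_pole (hn : Fintype.card ι = 3) (v y : ι → F) :
    ∃ w : ι → F, w ≠ 0 ∧ f w v = 0 ∧ f w y = 0 := by
  set L : (ι → F) →ₗ[F] (Fin 2 → F) := LinearMap.pi ![hl hf v, hl hf y] with hL
  obtain ⟨w, hw, hw0⟩ := (LinearMap.ker L).ne_bot_iff.mp fun h => by
    have := LinearMap.finrank_le_finrank_of_injective (f := L) (LinearMap.ker_eq_bot.mp h)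
    simp [hn] at this
  refine ⟨w, hw0, ?_, ?_⟩
  · simpa [hL, hl] using congrFun (LinearMap.mem_ker.mp hw) 0
  · simpa [hL, hl] using congrFun (LinearMap.mem_ker.mp hw) 1

/-- Coordinates at a hyperbolic pair and its pole. -/
theorem triad (hn : Fintype.card ι = 3) {a e w : ι → F} (haa : f a a = 0) (hee : f e e = 0)
    (hae : f a e = 1) (hwa : f w a = 0) (hwe : f w e = 0) (hw : w ≠ 0) :
    f w w ≠ 0 ∧ ∀ x, x = f x e • a + f x a • e + (f x w / f w w) • w := by
  have hea : f e a = 1 := by rw [hf.herm, hae, map_one]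
  have hli : LinearIndependent F ![a, e, w] := by
    rw [Fintype.linearIndependent_iff]
    intro g hg
    simp only [Fin.sum_univ_three, Matrix.cons_val_zero, Matrix.cons_val_one,
      Matrix.cons_val_two, Matrix.head_cons, Matrix.tail_cons] at hg
    have h1 := congrArg (fun z => f z e) hg
    have h2 := congrArg (fun z => f z a) hg
    simp only [hf.add_left, hf.smul_left, hae, hee, hwe, haa, hea, hwa, hzero_left hf, mul_one,
      mul_zero, add_zero, zero_add] at h1 h2
    rw [h1, h2, zero_smul, zero_smul, zero_add, zero_add, smul_eq_zero] at hg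
    intro i
    fin_cases i
    · exact h1
    · exact h2
    · exact hg.resolve_right hw
  have hzero : ∀ d, f d e = 0 → f d a = 0 → f d w = 0 → d = 0 := by
    intro d h1 h2 h3
    by_contra hd
    obtain ⟨y, hy⟩ := (hf.nondegenerate d hd).2
    have hy' : y ∈ Submodule.span F (Set.range ![a, e, w]) := by
      rw [hli.span_eq_top_of_card_eq_finrank (by simp [hn])]; trivial
    obtain ⟨g, rfl⟩ := (Submodule.mem_span_range_iff_exists_fun F).mp hy'
    refine hy ?_
    simp [Fin.sum_univ_three, hadd_right hf, hsmul_right hf, h1, h2, h3]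
  have hW : f w w ≠ 0 := fun h => hw (hzero w hwe hwa h)
  refine ⟨hW, fun x => sub_eq_zero.mp (hzero _ ?_ ?_ ?_)⟩ <;>
    simp only [hsub_left hf, hf.add_left, hf.smul_left, hae, hee, hwe, haa, hea, hwa,
      hswap_zero hf hwa, hswap_zero hf hwe, mul_one, mul_zero, add_zero, zero_add]
  · exact sub_self _
  · exact sub_self _
  · rw [div_mul_cancel₀ _ hW, sub_self]

/-- Centres at a hyperbolic pair and one centre off their line give all centres. -/
theorem centre_of_three (hn : Fintype.card ι = 3) {v y b w : ι → F}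
    (hv : Centre σ f M v) (hy : Centre σ f M y) (hvy : f v y ≠ 0)
    (hwv : f w v = 0) (hwy : f w y = 0) (hb : Centre σ f M b) (hbw : f b w ≠ 0) :
    ∀ x, f x x = 0 → Centre σ f M x := by
  obtain ⟨a, ha_def⟩ : ∃ a, a = (f v y)⁻¹ • v := ⟨_, rfl⟩
  have hca : Centre σ f M a := ha_def ▸ centre_smul hf hv _
  have haa : f a a = 0 := hca.1
  have hee : f y y = 0 := hy.1
  have hae : f a y = 1 := by rw [ha_def, hf.smul_left, inv_mul_cancel₀ hvy]
  have hea : f y a = 1 := by rw [hf.herm, hae, map_one]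
  have hwa : f w a = 0 := by rw [ha_def, hsmul_right hf, hwv, mul_zero]
  have hw0 : w ≠ 0 := fun h => hbw (by rw [h, hzero_right hf])
  obtain ⟨hW, hdec⟩ := triad hf hn haa hee hae hwa hwy hw0
  have haw : f a w = 0 := hswap_zero hf hwa
  have hyw : f y w = 0 := hswap_zero hf hwy
  set W := f w w with hWdef
  -- isotropic vectors with vanishing `a`-coordinate
  have hzero : ∀ x, f x x = 0 → f x y = 0 → x = f x a • y := fun x hxx hxy => by
    have hx := hdec x
    rw [hxy, zero_smul, zero_add] at hx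
    have h1 : f x x = f x w / W * σ (f x w / W) * W := by
      conv_lhs => rw [hx]
      simp only [hf.add_left, hadd_right hf, hf.smul_left, hsmul_right hf, hee, hwy, hyw, ← hWdef]
      ring
    rw [hxx, eq_comm, mul_eq_zero, mul_eq_zero, map_eq_zero] at h1
    have hs : f x w / W = 0 := by rcases h1 with (h | h) | h <;> first | exact h | exact absurd h hW
    rwa [hs, zero_smul, add_zero] at hx
  have htr : ∀ β s : F, f (a + β • y + s • w) (a + β • y + s • w) = β + σ β + s * σ s * W := by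
    intro β s
    simp only [hf.add_left, hadd_right hf, hf.smul_left, hsmul_right hf, haa, hee, hae, hea,
      hwa, hwy, haw, hyw, ← hWdef]
    ring
  -- moving along the line through `y`
  have hline : ∀ β β' s : F, Centre σ f M (a + β • y + s • w) → β' + σ β' = β + σ β →
      Centre σ f M (a + β' • y + s • w) := fun β β' s h hβ => by
    have := centre_move hf hy h (c := β' - β) (by rw [map_sub]; linear_combination hβ)
    have hfy : f (a + β • y + s • w) y = 1 := by
      rw [hf.add_left, hf.add_left, hf.smul_left, hf.smul_left, hae, hee, hwy]; ring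
    rw [hfy, mul_one] at this
    convert this using 1
    module
  -- moving along lines through `a`
  have hstep : ∀ β s u : F, s ≠ 0 → σ u ≠ u → Centre σ f M (a + β • y + s • w) →
      ∃ β' : F, Centre σ f M (a + β' • y + (s / u) • w) := by
    intro β s u hs hu h
    have hu0 : u ≠ 0 := fun h0 => hu (by rw [h0, map_zero])
    have hτ : β + σ β ≠ 0 := by
      have h0 := h.1
      rw [htr] at h0
      intro h1
      rw [h1, zero_add] at h0
      simp [hs, hW] at h0
    set c := (u - σ u) / (β + σ β) with hc_def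
    have hc0 : c ≠ 0 := div_ne_zero (sub_ne_zero.mpr (Ne.symm hu)) hτ
    have hc : c + σ c = 0 := by
      rw [hc_def, map_div₀, map_sub, map_add, hf.involutive, hf.involutive, add_comm (σ β) β,
        ← add_div]
      simp
    have hβ' : (u - 1) / c + σ ((u - 1) / c) = β + σ β := by
      have hσc : σ c = -c := by linear_combination hc
      rw [map_div₀, map_sub, map_one, hσc, div_neg, ← sub_eq_add_neg, ← sub_div, hc_def]
      field_simp
      ring
    have h1 := centre_move hf hca (hline β ((u - 1) / c) s h hβ') hc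
    have hfa : f (a + ((u - 1) / c) • y + s • w) a = (u - 1) / c := by
      rw [hf.add_left, hf.add_left, hf.smul_left, hf.smul_left, haa, hea, hwa]; ring
    rw [hfa, mul_div_cancel₀ _ hc0] at h1
    refine ⟨(u - 1) / c / u, ?_⟩
    convert centre_smul hf h1 u⁻¹ using 1
    match_scalars <;> field_simp
    ring
  -- the given centre, normalised
  obtain ⟨β₀, s₀, hs₀, h₀⟩ : ∃ β s : F, s ≠ 0 ∧ Centre σ f M (a + β • y + s • w) := by
    have hby : f b y ≠ 0 := fun h => hbw (by
      rw [hzero b hb.1 h, hf.smul_left, hyw, mul_zero])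
    refine ⟨f b a / f b y, f b w / W / f b y, div_ne_zero (div_ne_zero hbw hW) hby, ?_⟩
    convert centre_smul hf hb (f b y)⁻¹ using 1
    conv_rhs => arg 2; rw [hdec b]
    match_scalars <;> field_simp
  intro x hx
  by_cases hxy : f x y = 0
  · rw [hzero x hx hxy]; exact centre_smul hf hy _
  set β := f x a / f x y with hβ_def
  set s := f x w / W / f x y with hs_def
  have hxe : x = f x y • (a + β • y + s • w) := by
    conv_lhs => rw [hdec x]
    rw [hβ_def, hs_def]
    match_scalars <;> field_simp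
  suffices hnorm : Centre σ f M (a + β • y + s • w) by
    rw [hxe]; exact centre_smul hf hnorm _
  have hβ : β + σ β + s * σ s * W = 0 := by
    have := hx
    rw [hxe, hf.smul_left, hsmul_right hf, htr, mul_eq_zero, mul_eq_zero, map_eq_zero] at this
    exact (this.resolve_left hxy).resolve_left hxy
  by_cases hs : s = 0
  · rw [hs] at hβ ⊢
    have := hline 0 β 0 (by simpa using hca) (by rw [map_zero]; linear_combination hβ)
    exact this
  obtain ⟨β₁, h₁⟩ : ∃ β₁, Centre σ f M (a + β₁ • y + s • w) := by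
    set ρ := s₀ / s with hρ
    have hρ0 : ρ ≠ 0 := div_ne_zero hs₀ hs
    have hsρ : s₀ / ρ = s := by rw [hρ]; field_simp
    by_cases hr : σ ρ = ρ
    · obtain ⟨u, hu⟩ : ∃ u, σ u ≠ u := by
        by_contra hne
        simp only [not_exists, not_not] at hne
        exact hf.ne_refl (RingEquiv.ext fun z => hne z)
      have hu0 : u ≠ 0 := fun h0 => hu (by rw [h0, map_zero])
      obtain ⟨β₂, h₂⟩ := hstep β₀ s₀ u hs₀ hu h₀
      obtain ⟨β₃, h₃⟩ := hstep β₂ (s₀ / u) (ρ / u) (div_ne_zero hs₀ hu0) (by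
        rw [map_div₀, hr]
        intro h
        rw [div_eq_div_iff ((map_ne_zero σ).mpr hu0) hu0] at h
        exact hu (mul_left_cancel₀ hρ0 h).symm) h₂
      exact ⟨β₃, by rwa [show s₀ / u / (ρ / u) = s by rw [hρ]; field_simp] at h₃⟩
    · obtain ⟨β₂, h₂⟩ := hstep β₀ s₀ ρ hs₀ hr h₀
      exact ⟨β₂, by rwa [hsρ] at h₂⟩
  have h1 := h₁.1
  rw [htr] at h1
  exact hline β₁ β s h₁ (by linear_combination hβ - h1)

/-- Two non-orthogonal centres and an element moving their pole give all centres. -/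
theorem centre_of_two (hn : Fintype.card ι = 3) (hMG : M ≤ su f) {v y w : ι → F}
    (hv : Centre σ f M v) (hy : Centre σ f M y) (hvy : f v y ≠ 0)
    (hwv : f w v = 0) (hwy : f w y = 0)
    {g : GL ι F} (hg : g ∈ M) (hgw : ¬ ∃ r : F, (g : Matrix ι ι F) *ᵥ w = r • w) :
    ∀ x, f x x = 0 → Centre σ f M x := by
  have hgi := (hMG hg).1
  have hgv := centre_map hf hv hg hgi
  have hgy := centre_map hf hy hg hgi
  have hw0 : w ≠ 0 := fun h => hgw ⟨0, by rw [h, mulVec_zero, smul_zero]⟩
  by_cases h1 : f ((g : Matrix ι ι F) *ᵥ v) w = 0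
  swap
  · exact centre_of_three hf hn hv hy hvy hwv hwy hgv h1
  by_cases h2 : f ((g : Matrix ι ι F) *ᵥ y) w = 0
  swap
  · exact centre_of_three hf hn hv hy hvy hwv hwy hgy h2
  refine absurd ?_ hgw
  set a := (f v y)⁻¹ • ((g : Matrix ι ι F) *ᵥ v) with ha_def
  set e := (g : Matrix ι ι F) *ᵥ y with he_def
  set w' := (g : Matrix ι ι F) *ᵥ w with hw'_def
  have hae : f a e = 1 := by
    rw [ha_def, he_def, hf.smul_left, mem_isom.mp hgi, inv_mul_cancel₀ hvy]
  have haa : f a a = 0 := (centre_smul hf hgv (f v y)⁻¹).1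
  have hw'0 : w' ≠ 0 := fun h => hw0 (by
    rw [← inv_mulVec_mulVec g w]
    show _ = (0 : ι → F)
    rw [← hw'_def, h, mulVec_zero])
  have hw'a : f w' a = 0 := by
    rw [ha_def, hw'_def, hsmul_right hf, mem_isom.mp hgi, hwv, mul_zero]
  have hw'e : f w' e = 0 := by rw [he_def, hw'_def, mem_isom.mp hgi, hwy]
  obtain ⟨hW', hdec⟩ := triad hf hn haa hgy.1 hae hw'a hw'e hw'0
  have hwa : f w a = 0 := by rw [ha_def, hsmul_right hf, hswap_zero hf h1, mul_zero]
  have h3 := hdec w
  rw [hswap_zero hf h2, hwa, zero_smul, zero_smul, zero_add, zero_add] at h3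
  refine ⟨(f w w' / f w' w')⁻¹, ?_⟩
  have hne : f w w' / f w' w' ≠ 0 := fun h => hw0 (by rw [h3, h, zero_smul])
  exact ((inv_smul_smul₀ hne w').symm).trans (congrArg _ h3.symm)

/-- A subgroup with the stabiliser of a non-isotropic point of a three-space and one more
element. -/
theorem centre_of_point_stab (hn : Fintype.card ι = 3) {w : ι → F} (hw : f w w ≠ 0)
    (hMG : M ≤ su f)
    (hH : ∀ g ∈ su f, (∃ r : F, (g : Matrix ι ι F) *ᵥ w = r • w) → g ∈ M)
    {g : GL ι F} (hg : g ∈ M) (hgw : ¬ ∃ r : F, (g : Matrix ι ι F) *ᵥ w = r • w) :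
    ∀ x, f x x = 0 → Centre σ f M x := by
  have hC : ∀ v, f v w = 0 → f v v = 0 → Centre σ f M v := fun v hv hvv =>
    ⟨hvv, fun c hc => hH _ (ut_mem_su hf hvv hc) ⟨1, by
      rw [ut_mulVec hf hvv, hswap_zero hf hv, mul_zero, zero_smul, add_zero, one_smul]⟩⟩
  set K := LinearMap.ker (hl hf w) with hK
  have hKdim : 2 ≤ Module.finrank F K := by
    have h := LinearMap.finrank_range_add_finrank_ker (hl hf w)
    have h' := Submodule.finrank_le (LinearMap.range (hl hf w))
    rw [Module.finrank_fintype_fun_eq_card, hn, ← hK] at h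
    rw [Module.finrank_self] at h'
    omega
  have hmem : ∀ x, x ∈ K ↔ f x w = 0 := fun x => Iff.rfl
  obtain ⟨e, he, he0, hee⟩ := exists_iso_mem hf hKdim
  have hew : f e w = 0 := (hmem e).mp he
  obtain ⟨z₀, hz₀⟩ : ∃ z, f z e ≠ 0 := (hf.nondegenerate e he0).1
  set z₁ := z₀ - (f z₀ w / f w w) • w with hz₁
  have hz₁w : f z₁ w = 0 := by rw [hz₁, hsub_left hf, hf.smul_left, div_mul_cancel₀ _ hw, sub_self]
  have hz₁e : f z₁ e ≠ 0 := by
    rw [hz₁, hsub_left hf, hf.smul_left, hswap_zero hf hew, mul_zero, sub_zero]; exact hz₀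
  obtain ⟨t, ht⟩ := exists_trace hf (r := -f z₁ z₁) (by rw [map_neg, ← hf.herm])
  set z := z₁ + (t / f e z₁) • e with hz
  have hzw : f z w = 0 := by rw [hz, hf.add_left, hf.smul_left, hz₁w, hew, mul_zero, add_zero]
  have hze : f z e ≠ 0 := by rwa [hz, hf.add_left, hf.smul_left, hee, mul_zero, add_zero]
  have hzz : f z z = 0 := by
    have hne : f e z₁ ≠ 0 := hswap_ne_zero hf hz₁e
    rw [hz, hf.add_left, hadd_right hf, hadd_right hf, hf.smul_left, hsmul_right hf, hf.smul_left,
      hsmul_right hf, hee, hf.herm z₁ e, map_div₀, div_mul_cancel₀ _ hne,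
      div_mul_cancel₀ _ ((map_ne_zero σ).mpr hne)]
    linear_combination ht
  exact centre_of_two hf hn hMG (hC z hzw hzz) (hC e hew hee) hze (hswap_zero hf hzw)
    (hswap_zero hf hew) hg hgw

end Core

variable {F : Type*} [Field F] [Fintype F]

/-- All centres give the whole special unitary group. -/
theorem le_of_centres {q : ℕ} (hF : Fintype.card F = q ^ 2) (hq : 3 ≤ q) {σ : F ≃+* F}
    (hσ : ∀ x, σ x = x ^ q) (hf : Geo.IsUnitaryForm σ (hermForm 3 F q))
    {M : Subgroup (GL (Fin 3) F)}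
    (h : ∀ v, hermForm 3 F q v v = 0 → Centre σ (hermForm 3 F q) M v) :
    su (hermForm 3 F q) ≤ M := by
  rw [su_eq]
  refine LagPair.le_of_T_mem hF (by omega) fun v a hv ha => ?_
  have e : LagPair.T (hermForm 3 F q) v a = ut (hermForm 3 F q) v a := gl_ext fun x => by
    rw [LagPair.T_mulVec (LagPair.isPairForm_herm hF) hv, ut_mulVec hf hv]
  rw [e]
  refine (h v hv).2 a ?_
  have : Unitary.conjHom hF a = σ a := by rw [hσ]; rfl
  rw [this] at ha
  linear_combination -ha

/-- Clause 1 of S5777. -/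
theorem singular_maximal (q : ℕ) (hF : Fintype.card F = q ^ 2) (hq : 3 ≤ q) :
    ∀ W : Submodule F (Fin 3 → F), W ≠ ⊥ → Cfsg.Geo.IsTotallySingularFor (Cfsg.hermForm 3 F q) W → Cfsg.Geo.IsMaximalIn (Cfsg.GU 3 F q ⊓ Cfsg.Geo.specialLinear (Fin 3) F) (Cfsg.Geo.subspaceStabilizer W ⊓ (Cfsg.GU 3 F q ⊓ Cfsg.Geo.specialLinear (Fin 3) F)) := by
  intro W hW0 hW
  obtain ⟨σ, hσ, hf⟩ := exists_setup (n := 3) hF
  rw [← su_eq]
  refine isMaximalIn_of inf_le_right ?_ fun M hHM hMG g hg hgH => ?_
  · obtain ⟨e, he, he0⟩ := W.ne_bot_iff.mp hW0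
    obtain ⟨z₀, hz₀, -⟩ := exists_dual hf (U := ⊥) (by simpa using he0)
    obtain ⟨z, hz, hzz⟩ := exists_isotropic_coset hf (LinearMap.pi ![hl hf e]) (by simp) z₀
    have hze : hermForm 3 F q z e = 1 := by simpa [hz₀] using congrFun hz 0
    obtain ⟨c, hc0, hc⟩ := exists_skew hf
    refine ⟨ut _ z c, ut_mem_su hf hzz hc, fun h => ?_⟩
    have h1 := (h.1 e).mp he
    change (ut (hermForm 3 F q) z c : Matrix (Fin 3) (Fin 3) F) *ᵥ e ∈ W at h1
    rw [ut_mulVec hf hzz] at h1
    have h2 := (Submodule.add_mem_iff_right W he).mp h1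
    rw [Submodule.smul_mem_iff W (mul_ne_zero hc0
      (hswap_ne_zero hf (by rw [hze]; exact one_ne_zero)))] at h2
    exact one_ne_zero (hze.symm.trans (hW z h2 e he))
  · exact le_of_centres hF hq hσ hf (SU4Geo98.centre_of_singular_stab_any hf hW hMG
      (fun k hk hs => hHM ⟨mem_subspaceStabilizer hs, hk⟩) hg
      fun hs => hgH ⟨mem_subspaceStabilizer hs, hMG hg⟩)

/-- Clause 2 of S5777. -/
theorem point_maximal (q : ℕ) (hF : Fintype.card F = q ^ 2) (hq : 3 ≤ q) :
    ∀ W : Submodule F (Fin 3 → F), W ≠ ⊥ → Cfsg.Geo.IsNondegenerateOn (Cfsg.hermForm 3 F q) W → 2 * Module.finrank F W < 3 → Cfsg.Geo.IsMaximalIn (Cfsg.GU 3 F q ⊓ Cfsg.Geo.specialLinear (Fin 3) F) (Cfsg.Geo.subspaceStabilizer W ⊓ (Cfsg.GU 3 F q ⊓ Cfsg.Geo.specialLinear (Fin 3) F)) := by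
  intro W hW0 hW hdim
  obtain ⟨σ, hσ, hf⟩ := exists_setup (n := 3) hF
  rw [← su_eq]
  obtain ⟨w, hwW, hw0⟩ := W.ne_bot_iff.mp hW0
  have hW1 : W = Submodule.span F {w} := by
    refine (Submodule.eq_of_le_of_finrank_le (Submodule.span_le.mpr (by simpa using hwW)) ?_).symm
    rw [finrank_span_singleton hw0]
    omega
  have hww : hermForm 3 F q w w ≠ 0 := by
    obtain ⟨y, hy, hy'⟩ := (hW w hwW hw0).2
    rw [hW1] at hy
    obtain ⟨r, rfl⟩ := Submodule.mem_span_singleton.mp hy
    intro h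
    exact hy' (by rw [hsmul_right hf, h, mul_zero])
  refine isMaximalIn_of inf_le_right ?_ fun M hHM hMG g hg hgH => ?_
  · obtain ⟨z₀, hz₀, -⟩ := exists_dual hf (U := ⊥) (by simpa using hw0)
    obtain ⟨z, hz, hzz⟩ := exists_isotropic_coset hf (LinearMap.pi ![hl hf w]) (by simp) z₀
    have hzw : hermForm 3 F q z w = 1 := by simpa [hz₀] using congrFun hz 0
    obtain ⟨c, hc0, hc⟩ := exists_skew hf
    refine ⟨ut _ z c, ut_mem_su hf hzz hc, fun h => ?_⟩
    have h1 := (h.1 w).mp hwW
    change (ut (hermForm 3 F q) z c : Matrix (Fin 3) (Fin 3) F) *ᵥ w ∈ W at h1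
    rw [ut_mulVec hf hzz] at h1
    have h2 := (Submodule.add_mem_iff_right W hwW).mp h1
    rw [Submodule.smul_mem_iff W (mul_ne_zero hc0
      (hswap_ne_zero hf (by rw [hzw]; exact one_ne_zero))), hW1] at h2
    obtain ⟨r, hr⟩ := Submodule.mem_span_singleton.mp h2
    have h3 : r • w = z := hr
    rw [← h3, hf.smul_left, hsmul_right hf] at hzz
    have hr0 : r = 0 := by simpa [hww] using hzz
    rw [← h3, hr0, zero_smul, hzero_left hf] at hzw
    exact zero_ne_one hzw
  · refine le_of_centres hF hq hσ hf (centre_of_point_stab hf (by simp) hww hMG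
      (fun k hk hs => hHM ⟨mem_subspaceStabilizer fun x hx => ?_, hk⟩) hg
      fun hs => hgH ⟨mem_subspaceStabilizer fun x hx => ?_, hMG hg⟩)
    all_goals
      obtain ⟨r, hr⟩ := hs
      rw [hW1] at hx ⊢
      obtain ⟨s, rfl⟩ := Submodule.mem_span_singleton.mp hx
      rw [mulVec_smul, hr]
      exact Submodule.smul_mem _ _ (Submodule.smul_mem _ _ (Submodule.mem_span_singleton_self w))

end Cfsg.Agent.SU3Geo98
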