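import Cfsg.Agent.SU3Geo98.LinesPlane

/-!
Clause (3) of S5777: the monomial subgroup of `SU₃(q)`, `q ≥ 3`, `q ≠ 5`, is maximal (helper32).
-/

set_option autoImplicit false
set_option linter.unusedSectionVars false

namespace Cfsg.Agent.SU3Geo98

open Matrix Cfsg.Agent.MaxSub Cfsg.Agent.HermStab Cfsg.Agent.UDec18
open Finset (univ)

namespace Lines

variable {F : Type*} [Field F] [Fintype F] {q : ℕ}
variable {σ : F ≃+* F} {f : (Fin 3 → F) → (Fin 3 → F) → F} {M : Subgroup (GL (Fin 3) F)}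

local notation:73 g:74 " ◆ " x:73 => (Units.val g) *ᵥ x

variable (S : Std q σ f)
include S

/-- A transvection with full centre does not preserve the coordinate lines. -/
theorem exists_not_mono (h3 : 3 ≤ q) : ∃ h ∈ su f, ¬ Mono h := by
  classical
  obtain ⟨r, hr, hne⟩ := Finset.exists_mem_notMem_of_card_lt_card (s := ({0, -1} : Finset F))
    (t := S.reals) (Finset.card_le_two.trans_lt (by rw [S.card_reals]; omega))
  simp only [Finset.mem_insert, Finset.mem_singleton, not_or] at hne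
  have hr' := S.mem_reals.mp hr
  obtain ⟨α, hα⟩ := S.exists_norm hr'
  obtain ⟨β, hβ⟩ := S.exists_norm (r := -1 - r) (by rw [map_sub, map_neg, map_one, hr'])
  have hα0 : α ≠ 0 := fun h => hne.1 (by rw [← hα, h, zero_mul])
  have hβ0 : β ≠ 0 := fun h => hne.2 (by
    rw [h, zero_mul] at hβ; linear_combination hβ)
  have hiso : f ![1, α, β] ![1, α, β] = 0 := by
    rw [S.sum, Fin.sum_univ_three]
    simp
    linear_combination hα + hβ
  obtain ⟨c, hc0, hc⟩ := exists_skew S.uf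
  refine ⟨ut f ![1, α, β] c, ut_mem_su S.uf hiso hc, fun ⟨π, hπ⟩ => ?_⟩
  have him : ∀ j, j ≠ 0 → (ut f ![1, α, β] c ◆ e 0) j = c * ![1, α, β] j := fun j hj => by
    rw [ut_mulVec S.uf hiso, S.e_f]
    simp [e, hj]
    fin_cases j <;> simp
  have e1 : (1 : Fin 3) = π 0 := by
    simpa using hπ 0 1 (by rw [him 1 (by decide)]; simp [hc0, hα0])
  have e2 : (2 : Fin 3) = π 0 := by
    simpa using hπ 0 2 (by rw [him 2 (by decide)]; simp [hc0, hβ0])
  exact absurd (e1.trans e2.symm) (by decide)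

/-- The monomial group and one more element give all transvection groups. -/
theorem centre_three (h3 : 3 ≤ q) (h5 : q ≠ 5) (hH : ∀ h ∈ su f, Mono h → h ∈ M) (hMG : M ≤ su f)
    {g : GL (Fin 3) F} (hg : g ∈ M) (hgH : ¬ Mono g) : ∀ v, f v v = 0 → Centre σ f M v := by
  by_cases NC : NoCoord M
  · exact absurd (all_mono S h3 h5 hH hMG NC hg) hgH
  unfold NoCoord at NC
  simp only [not_forall] at NC
  obtain ⟨g₁, hg₁, i, a, c, hc, hm⟩ := NC
  obtain ⟨g', hg', hg'n, hg'i⟩ := exists_fix S le_rfl hH hMG hg₁ hm hc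
  obtain ⟨v, hv0, hvi, hv⟩ := centre_of_fix S h3 hH hMG hg' hg'n hg'i
  obtain ⟨x, y, α, β, hxy, hα, hβ, hαβ, hC⟩ := root_of_centre S hH hv0 hvi hv
  exact centre_all S (roots_of_root S le_rfl hH hxy hα hβ hαβ hC) fun h => absurd h (by omega)

end Lines

/-- Clause (3): decompositions into three orthogonal non-degenerate lines. -/
theorem lines_maximal {F : Type*} [Field F] [Fintype F] (q : ℕ) (hF : Fintype.card F = q ^ 2)
    (hq : 3 ≤ q) :
    q ≠ 5 → ∀ D : Fin 3 → Submodule F (Fin 3 → F),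
      Cfsg.Geo.IsNondegenerateMDecomposition (Cfsg.hermForm 3 F q) 1 D →
      Cfsg.Geo.IsMaximalIn (Cfsg.GU 3 F q ⊓ Cfsg.Geo.specialLinear (Fin 3) F)
        (Cfsg.Geo.decompositionStabilizer D ⊓
          (Cfsg.GU 3 F q ⊓ Cfsg.Geo.specialLinear (Fin 3) F)) := by
  classical
  intro h5 D hD
  obtain ⟨σ, hσ, hf⟩ := exists_setup (n := 3) hF
  have S : Std q σ (hermForm 3 F q) := ⟨hf, hF, hσ, fun x y => by simp [hermForm, hσ]⟩
  obtain ⟨U, blk, hUi, hcard, hU⟩ := exists_coords S hD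
  obtain ⟨hinj, hs⟩ := blk_bijective hcard
  have conj_su : ∀ {W h : GL (Fin 3) F}, W ∈ isom (hermForm 3 F q) → h ∈ su (hermForm 3 F q) →
      W * h * W⁻¹ ∈ su (hermForm 3 F q) := fun {W h} hW hh =>
    ⟨(mul_mem (mul_mem hW hh.1) (inv_mem hW) : W * h * W⁻¹ ∈ isom (hermForm 3 F q)),
      (mem_special_iff S).mpr (by
      rw [Units.val_mul, Units.val_mul, Matrix.det_units_conj]
      exact (mem_special_iff S).mp hh.2)⟩
  rw [← su_eq]
  refine isMaximalIn_of inf_le_right ?_ fun M hHM hMG g hg hgH => ?_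
  · obtain ⟨h, hh, hnm⟩ := Lines.exists_not_mono S hq
    refine ⟨U * h * U⁻¹, conj_su hUi hh, fun hx => hnm ?_⟩
    have := keeps_of_stab hU hx.1
    exact (keeps_id hinj hs).mp (by simpa [mul_assoc] using this)
  · set M' : Subgroup (GL (Fin 3) F) := M.comap (MulAut.conj U).toMonoidHom with hM'
    have memM' : ∀ h, h ∈ M' ↔ U * h * U⁻¹ ∈ M := fun h => Iff.rfl
    have hM'G : M' ≤ su (hermForm 3 F q) := fun h hh => by
      simpa [mul_assoc] using conj_su (inv_mem hUi) (hMG ((memM' h).mp hh))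
    have hH : ∀ h ∈ su (hermForm 3 F q), Mono h → h ∈ M' := fun h hh hm =>
      (memM' h).mpr (hHM ⟨stab_of_keeps hU Nat.one_pos hcard hD.decomp.finrank_eq
        (by simpa [mul_assoc] using (keeps_id hinj hs).mpr hm), conj_su hUi hh⟩)
    have hg' : U⁻¹ * g * U ∈ M' := (memM' _).mpr (by simpa [mul_assoc] using hg)
    have hgn : ¬ Mono (U⁻¹ * g * U) := fun hm => hgH
      ⟨stab_of_keeps hU Nat.one_pos hcard hD.decomp.finrank_eq ((keeps_id hinj hs).mpr hm), hMG hg⟩
    have hcent := Lines.centre_three S hq h5 hH hM'G hg' hgn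
    rw [su_eq]
    refine LagPair.le_of_T_mem hF (by omega) fun v a hv ha => ?_
    have e : LagPair.T (hermForm 3 F q) v a = ut (hermForm 3 F q) v a := gl_ext fun x => by
      rw [LagPair.T_mulVec (LagPair.isPairForm_herm hF) hv, ut_mulVec hf hv]
    have hsk : a + σ a = 0 := by
      have : Unitary.conjHom hF a = σ a := by rw [hσ]; rfl
      rw [this] at ha
      linear_combination -ha
    have hw : hermForm 3 F q ((U⁻¹ : GL (Fin 3) F).1 *ᵥ v) ((U⁻¹ : GL (Fin 3) F).1 *ᵥ v) = 0 :=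
      (mem_isom.mp (inv_mem hUi) v v).trans hv
    obtain ⟨-, hC⟩ := hcent _ hw
    have e' : ut (hermForm 3 F q) v a =
        U * ut (hermForm 3 F q) ((U⁻¹ : GL (Fin 3) F).1 *ᵥ v) a * U⁻¹ := gl_ext fun x => by
      rw [ap_mul, ap_mul, ut_mulVec hf hv, ut_mulVec hf hw, mulVec_add, mulVec_smul,
        mulVec_inv_mulVec, mulVec_inv_mulVec, mem_isom.mp (inv_mem hUi)]
    rw [e, e']
    exact (memM' _).mp (hC a hsk)

end Cfsg.Agent.SU3Geo98
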