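import Cfsg.Agent.SU3Geo98.Orth.Main

/-!
Clause 6 of S5777: `Cfsg.Agent.SU3Geo98.orth_maximal` (helper66).
-/
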