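import Cfsg.Agent.SU3Geo98.SingerT.TwoCase
import Cfsg.Agent.SU3Geo98.Stab

/-!
Clause (4) of S5777, case (T): a Singer element and a transvection generate all transvections
(helper66).
-/

set_option autoImplicit false
set_option linter.unusedSectionVars false

namespace Cfsg.Agent.SU3Geo98

open Matrix Cfsg.Agent.MaxSub Cfsg.Agent.HermStab

variable {F : Type*} [Field F] [Fintype F] {q : ℕ}

/-- In characteristic two every involution of `SU₃` is a transvection. -/
theorem exists_transvection_of_involution (h2 : (2 : F) = 0) {σ : F ≃+* F}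
    {f : (Fin 3 → F) → (Fin 3 → F) → F} (hf : Geo.IsUnitaryForm σ f) {M : Subgroup (GL (Fin 3) F)}
    (hMG : M ≤ HermStab.su f) {d : GL (Fin 3) F} (hd : d ∈ M) (hd1 : d ≠ 1) (hd2 : d ^ 2 = 1) :
    ∃ (v : Fin 3 → F) (c : F), v ≠ 0 ∧ f v v = 0 ∧ c ≠ 0 ∧ c + σ c = 0 ∧ MaxSub.ut f v c ∈ M := by
  obtain ⟨v, c, h1, h2', h3, h4, h5⟩ := SingerT.exists_ut_of_involution hf (by simp) h2
    (d := d) (hMG hd).1 hd1 (by rwa [← pow_two])
  exact ⟨v, c, h1, h2', h3, h4, h5 ▸ hd⟩

/-- A subgroup of `SU₃` containing a Singer element and a transvection contains every transvection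
centred at an isotropic point. -/
theorem centre_all_of_singer_transvection (hF : Fintype.card F = q ^ 2) (hq : 4 ≤ q) (hq5 : q ≠ 5)
    {σ : F ≃+* F} (hσ : ∀ x, σ x = x ^ q) {f : (Fin 3 → F) → (Fin 3 → F) → F}
    (hf : Geo.IsUnitaryForm σ f) {M : Subgroup (GL (Fin 3) F)} (hMG : M ≤ HermStab.su f)
    {K : Subalgebra F (Matrix (Fin 3) (Fin 3) F)} (hK : Geo.IsFieldSubalgebra 3 K)
    {g : GL (Fin 3) F} (hg : g ∈ M) (hgK : (g : Matrix (Fin 3) (Fin 3) F) ∈ K)
    (hgo : orderOf g = q ^ 2 - q + 1) {v : Fin 3 → F} {c : F} (hv0 : v ≠ 0) (hvv : f v v = 0)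
    (hc0 : c ≠ 0) (hc : c + σ c = 0) (hu : MaxSub.ut f v c ∈ M) :
    ∀ x, f x x = 0 → HermStab.Centre σ f M x := by
  have hn : Fintype.card (Fin 3) = 3 := Fintype.card_fin 3
  -- no two-dimensional space is invariant
  have horb : ∀ u : Fin 3 → F, ∃ h ∈ M,
      (h : Matrix (Fin 3) (Fin 3) F) *ᵥ v ∉ Submodule.span F ({v, u} : Set (Fin 3 → F)) := by
    intro u
    by_contra hc'
    simp only [not_exists, not_and, not_not] at hc'
    set W := Submodule.span F (Set.range fun n : ℕ => ((g ^ n : GL (Fin 3) F) : Matrix (Fin 3) (Fin 3) F) *ᵥ v)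
    have hW0 : W ≠ ⊥ := fun h => hv0 (by
      have : v ∈ W := Submodule.subset_span ⟨0, by simp⟩
      rwa [h, Submodule.mem_bot] at this)
    have hWg : ∀ x ∈ W, (g : Matrix (Fin 3) (Fin 3) F) *ᵥ x ∈ W := by
      intro x hx
      induction hx using Submodule.span_induction with
      | mem y hy =>
        obtain ⟨n, rfl⟩ := hy
        refine Submodule.subset_span ⟨n + 1, ?_⟩
        show ((g ^ (n + 1) : GL (Fin 3) F) : Matrix (Fin 3) (Fin 3) F) *ᵥ v = _
        rw [pow_succ', Units.val_mul, mulVec_mulVec]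
      | zero => rw [mulVec_zero]; exact W.zero_mem
      | add a b _ _ ha hb => rw [mulVec_add]; exact W.add_mem ha hb
      | smul r a _ ha => rw [mulVec_smul]; exact W.smul_mem r ha
    have htop := SingerT.eq_top_of_invariant hF hn hK (by omega) hgK hgo hW0 hWg
    have hle : W ≤ Submodule.span F ({v, u} : Set (Fin 3 → F)) := by
      rw [Submodule.span_le]
      rintro _ ⟨n, rfl⟩
      exact hc' _ (pow_mem hg n)
    rw [htop, top_le_iff] at hle
    classical
    have h3 := finrank_span_finset_le_card (R := F) ({v, u} : Finset (Fin 3 → F))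
    rw [Set.finrank] at h3
    rw [show (((({v, u} : Finset (Fin 3 → F))) : Set (Fin 3 → F))) = {v, u} by simp, hle,
      finrank_top, Module.finrank_pi] at h3
    have := Finset.card_le_two (a := v) (b := u)
    simp at h3
    omega
  -- the multipliers of the group at `v` are all real scalars
  have hmem : ∀ k ∈ M, SingerT.lam σ f v ((k : Matrix (Fin 3) (Fin 3) F) *ᵥ v) c c ∈
      SingerT.mult hf hMG hvv := by
    intro k hk
    by_cases h2 : (2 : F) = 0
    · obtain ⟨c', h1, h3, h4, h5⟩ :=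
        SingerT.exists_second hF hq hn hK hf hMG hg hgK hgo h2 hv0 hvv hc0 hc hu
      exact SingerT.lam_self_mem_even hf hn hMG hvv hv0 hc0 hc hu horb h2 h1 h3 h4 h5 hk
    · exact SingerT.lam_self_mem_odd hf hn hMG hvv hv0 hc0 hc hu horb h2 hk
  have hR := @SingerT.real_mem_of_norms _ _ _ F _ _ q hF hq hq5 σ hσ f hf hn K hK g (hMG hg).1 hgK
    hgo v hv0 c hc0 (SingerT.mult hf hMG hvv) (fun r hr => hr.1) (fun n => hmem _ (pow_mem hg n))
  have hvc : Centre σ f M v := by
    refine ⟨hvv, fun d hd => ?_⟩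
    have hσ' : σ (d / c) = d / c := by
      rw [map_div₀, eq_neg_of_add_eq_zero_right hd, eq_neg_of_add_eq_zero_right hc, neg_div_neg_eq]
    have := (hR hσ').2 c hc hu
    rwa [div_mul_cancel₀ _ hc0] at this
  -- a second centre, and the engine
  obtain ⟨h, hh, hhv⟩ := horb v
  set y := (h : Matrix (Fin 3) (Fin 3) F) *ᵥ v with hy
  have hyc : Centre σ f M y := centre_map hf hvc hh (hMG hh).1
  have hvy : f v y ≠ 0 := fun h0 => hhv (by
    have := SingerT.mem_span_of_perp hf hn hyc.1 hvv h0 hv0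
    simpa using this)
  obtain ⟨w, hw0, hwv, hwy⟩ := exists_pole hf hn v y
  refine centre_of_two hf hn hMG hvc hyc hvy hwv hwy hg ?_
  rintro ⟨r, hr⟩
  have hW : Submodule.span F ({w} : Set (Fin 3 → F)) = ⊤ := by
    refine SingerT.eq_top_of_invariant hF hn hK (by omega) hgK hgo
      (by simpa using hw0) fun x hx => ?_
    obtain ⟨a, rfl⟩ := Submodule.mem_span_singleton.mp hx
    rw [mulVec_smul, hr, smul_smul]
    exact Submodule.smul_mem _ _ (Submodule.mem_span_singleton_self w)
  have h1 := finrank_span_singleton (K := F) hw0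
  rw [hW, finrank_top, Module.finrank_pi, hn] at h1
  omega

end Cfsg.Agent.SU3Geo98
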