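import Cfsg.Agent.SU3Geo98.Singer.Assembly
import Cfsg.Agent.SU3Geo98.Singer.Torus
import Cfsg.Agent.SU3Geo98.Singer.CharCase
import Cfsg.Agent.SU3Geo98.SingerTransvection

/-!
Clause 4 of S5777: `Cfsg.Agent.SU3Geo98.field_maximal` (helper60; transvection case helper66,
unipotent case helper99, character case helper35).
-/

set_option autoImplicit false

namespace Cfsg.Agent.SU3Geo98

open Matrix Cfsg.Agent.MaxSub

theorem field_maximal {F : Type*} [Field F] [Fintype F] (q : ℕ) (hF : Fintype.card F = q ^ 2) (hq : 3 ≤ q) :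
    q ≠ 3 → q ≠ 5 → ∀ K : Subalgebra F (Matrix (Fin 3) (Fin 3) F), Cfsg.Geo.IsFieldSubalgebra 3 K → Cfsg.Geo.IsAdjointClosedFor (Cfsg.hermForm 3 F q) K → Cfsg.Geo.IsMaximalIn (Cfsg.GU 3 F q ⊓ Cfsg.Geo.specialLinear (Fin 3) F) (Cfsg.Geo.subalgebraNormalizer K ⊓ (Cfsg.GU 3 F q ⊓ Cfsg.Geo.specialLinear (Fin 3) F)) := by
  intro h3 h5 K hK hac
  exact Singer.field_maximal_of hF hq h3 h5 hK (Singer.Torus.exists_torus hF hq hK hac)
    (Singer.Torus.card_normalizer hF hq hK hac)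
    (fun {σ} hσ hf {M} hMG {g} hg hgK hgo {v c} hv hvv hc0 hc hu =>
      centre_all_of_singer_transvection hF (by omega) h5 hσ hf hMG hK hg hgK hgo hv hvv hc0 hc hu)
    (fun h2 {σ} hσ hf {M} hMG {d} hd hd1 hd2 =>
      exists_transvection_of_involution h2 hf hMG hd hd1 hd2)
    (fun h7 hodd {σ} hσ hf {M} hMG hno {g} hg hgK hgo hN hlt {p} _ hp =>
      Singer.false_of_dvd hF h7 hodd hσ hf hMG hno hK hg hgK hgo hN hlt hp)

end Cfsg.Agent.SU3Geo98
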