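import Cfsg.Prelude.Def_Classical
import Cfsg.Agent.SU3Geo98.SubfieldOdd.Plane
import Cfsg.Agent.SU3Geo98.SubfieldOdd.Two
import Cfsg.Agent.SU3Geo98.Stab

/-!
Subfield subgroups of odd prime index in three-dimensional special unitary groups are maximal
(clause (5) of the geometric types; helper17).
-/

set_option autoImplicit false
set_option linter.unusedSectionVars false
open Cfsg
open Matrix

namespace Cfsg.Agent.SU3Geo98

namespace SubfieldOdd

open Cfsg.Agent.MaxSub Cfsg.Agent.MaxSub.SubfieldHerm Cfsg.Agent.HermStab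
open scoped Classical

variable {ι : Type} [Fintype ι] [DecidableEq ι] {F : Type*} [Field F] [Fintype F]
variable {σ : F ≃+* F} {f : (ι → F) → (ι → F) → F} {F₀ : Subfield F} {L : Subgroup (GL ι F)}

/-- An element which is not semirational moves some rational isotropic line off the rational
structure. -/
theorem exists_irr_three (D : Data σ f F₀ L) (hn : Fintype.card ι = 3) {h : GL ι F}
    (hh : h ∈ isom f) {c : F} (hc : c ∈ F₀) (hc0 : c ≠ 0)
    (hnot : ¬ ∃ s : F, s ≠ 0 ∧ ∀ i j, (h : Matrix ι ι F) i j / s ∈ F₀) :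
    ∃ e : ι → F₀, D.f₀ e e = 0 ∧ Irr f F₀ ((h : Matrix ι ι F) *ᵥ emb e) c := by
  by_contra hall
  push Not at hall
  obtain ⟨e₁, he₁, hee, -⟩ := exists_generic D.hf₀ (⊥ : Submodule F₀ (ι → F₀)) (by simp; omega)
  simp only [Submodule.mem_bot] at he₁
  obtain ⟨f₁, hf1, hff, -⟩ := exists_dual_iso D.hf₀ (⊥ : Submodule F₀ (ι → F₀)) (a := e₁)
    (by simpa using he₁) (by simp; omega)
  have hray : ∀ e : ι → F₀, e ≠ 0 → D.f₀ e e = 0 → ∃ (β : F) (y : ι → F₀),
      β ≠ 0 ∧ σ β * β ∈ F₀ ∧ (h : Matrix ι ι F) *ᵥ emb e = β • emb y := fun e he0 he =>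
    exists_ray D (mulVec_ne_zero h fun e0 => he0 (emb_injective (e0.trans emb_zero.symm))) hc hc0
      (hall e he)
  obtain ⟨s, y₁, hs, hNs, hy₁⟩ := hray e₁ he₁ hee
  refine hnot ⟨s, hs, ?_⟩
  -- isotropic vectors not orthogonal to `e₁`
  have key : ∀ e : ι → F₀, D.f₀ e e = 0 → D.f₀ e e₁ ≠ 0 →
      ∃ y : ι → F₀, (h : Matrix ι ι F) *ᵥ emb e = s • emb y := by
    intro e he hee₁
    have he0 : e ≠ 0 := fun e0 => hee₁ (by rw [e0, hzero_left D.hf₀])
    obtain ⟨β, y, hβ, -, hy⟩ := hray e he0 he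
    have h1 : f ((h : Matrix ι ι F) *ᵥ emb e) ((h : Matrix ι ι F) *ᵥ emb e₁) = D.f₀ e e₁ := by
      rw [mem_isom.mp hh, D.f_emb]
    rw [hy, hy₁, D.hf.smul_left, hsmul_right D.hf, D.f_emb] at h1
    have hne : (D.f₀ y y₁ : F) ≠ 0 := fun h0 => hee₁ (Subtype.ext (by
      rw [← h1, h0]; simp))
    have hq : β / s ∈ F₀ := by
      have : β / s = (D.f₀ e e₁ : F) / ((σ s * s) * (D.f₀ y y₁ : F)) := by
        rw [← h1]
        have := (map_ne_zero σ).2 hs
        field_simp
      rw [this]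
      exact div_mem (D.f₀ e e₁).2 (mul_mem hNs (D.f₀ y y₁).2)
    refine ⟨(⟨β / s, hq⟩ : F₀) • y, ?_⟩
    rw [hy, emb_smul, smul_smul, mul_div_cancel₀ _ hs]
  have hf1' : D.f₀ e₁ f₁ = 1 := by rw [D.hf₀.herm, hf1, map_one]
  have hfix : ∀ a : ι → F₀, D.σ₀ (D.f₀ a a) = D.f₀ a a := fun a => (D.hf₀.herm a a).symm
  have hevery : ∀ x : ι → F₀, ∃ y : ι → F₀, (h : Matrix ι ι F) *ᵥ emb x = s • emb y := by
    intro x
    by_cases hx : D.f₀ x e₁ = 0
    · have hrx : D.σ₀ (-(D.f₀ x x + D.f₀ x f₁ + D.f₀ f₁ x)) =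
          -(D.f₀ x x + D.f₀ x f₁ + D.f₀ f₁ x) := by
        rw [map_neg, map_add, map_add, ← D.hf₀.herm, ← D.hf₀.herm, ← D.hf₀.herm]; ring
      obtain ⟨t, ht⟩ := exists_trace D.hf₀ hrx
      have hz : D.f₀ (x + f₁ + t • e₁) (x + f₁ + t • e₁) = 0 := by
        simp only [D.hf₀.add_left, hadd_right D.hf₀, D.hf₀.smul_left, hsmul_right D.hf₀, hx,
          hswap_zero D.hf₀ hx, hff, hee, hf1, hf1']
        linear_combination ht
      obtain ⟨a, ha⟩ := key _ hz (by
        simp [D.hf₀.add_left, D.hf₀.smul_left, hx, hee, hf1])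
      obtain ⟨b, hb⟩ := key f₁ hff (by rw [hf1]; exact one_ne_zero)
      refine ⟨a - b - t • y₁, ?_⟩
      rw [emb_add, emb_add, emb_smul, mulVec_add, mulVec_add, mulVec_smul, hb, hy₁] at ha
      rw [emb_sub, emb_sub, emb_smul, smul_sub, smul_sub, ← ha]
      module
    · obtain ⟨t', ht'⟩ := exists_trace D.hf₀ (r := -D.f₀ x x) (by rw [map_neg, hfix])
      set α := D.f₀ x e₁ with hα
      have hα' : D.σ₀ α ≠ 0 := (map_ne_zero D.σ₀).2 hx
      set t := t' / D.σ₀ α with ht
      have hz : D.f₀ (x + t • e₁) (x + t • e₁) = 0 := by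
        simp only [D.hf₀.add_left, hadd_right D.hf₀, D.hf₀.smul_left, hsmul_right D.hf₀, hee,
          D.hf₀.herm e₁ x, ← hα, ht, map_div₀, D.hf₀.involutive]
        field_simp
        linear_combination α * D.σ₀ α * ht'
      obtain ⟨a, ha⟩ := key _ hz (by simp [D.hf₀.add_left, D.hf₀.smul_left, hee, ← hα, hx])
      refine ⟨a - t • y₁, ?_⟩
      rw [emb_add, emb_smul, mulVec_add, mulVec_smul, hy₁] at ha
      rw [emb_sub, emb_smul, smul_sub, ← ha]
      module
  intro i j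
  obtain ⟨y, hy⟩ := hevery (Pi.single j 1)
  have he : emb (Pi.single j (1 : F₀)) = Pi.single j (1 : F) := funext fun l => by
    show ((Pi.single j (1 : F₀) : ι → F₀) l : F) = _
    rw [Pi.single_apply, Pi.single_apply]
    split_ifs <;> rfl
  rw [he, mulVec_single_one] at hy
  have := congrFun hy i
  simp only [Matrix.col_apply, Pi.smul_apply, smul_eq_mul] at this
  rw [this, mul_div_cancel_left₀ _ hs]
  exact (y i).2

theorem ut_smul {v : ι → F} (hf : Geo.IsUnitaryForm σ f) (hv : f v v = 0) (r c : F) :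
    ut f (r • v) c = ut f v (c * (σ r * r)) := MaxSub.gl_ext fun x => by
  rw [ut_mulVec hf (by rw [hf.smul_left, hsmul_right hf, hv]; simp), ut_mulVec hf hv,
    hsmul_right hf]
  module

/-- Some rational isotropic point is a centre. -/
theorem exists_centre (D : Data σ f F₀ L) (h3 : Fintype.card ι = 3) {r : ℕ} (hr : r.Prime)
    (hr2 : r ≠ 2) (hq : Nat.card F = Nat.card F₀ ^ r) {c₀ : F₀} (hc₀ : c₀ + D.σ₀ c₀ = 0)
    (hc₀0 : c₀ ≠ 0) {h : GL ι F} (hh : h ∈ L) {e : ι → F₀} (hee : D.f₀ e e = 0)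
    (hirr : Irr f F₀ ((h : Matrix ι ι F) *ᵥ emb e) c₀) :
    ∃ q : ι → F₀, q ≠ 0 ∧ D.f₀ q q = 0 ∧ Centre σ f L (emb q) := by
  have hf := D.hf
  have hc₀' : (c₀ : F) + σ c₀ = 0 := by rw [← D.σ₀_coe]; exact congrArg Subtype.val hc₀
  have hc₀0' : (c₀ : F) ≠ 0 := fun h => hc₀0 (Subtype.ext h)
  set u := (h : Matrix ι ι F) *ᵥ emb e with hu
  have hhi := D.isom_of_mem hh
  have huu : f u u = 0 := (mem_isom.mp hhi _ _).trans (D.f_emb_zero hee)
  have hTu : ut f u c₀ ∈ L := by
    have := mul_mem (mul_mem hh (D.ut_mem hee hc₀)) (inv_mem hh)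
    rwa [ut_conj hf (D.f_emb_zero hee) _ hhi] at this
  obtain ⟨q, hqq, hN⟩ := exists_iso_irr D h3 c₀.2 hirr
  have hq0 : q ≠ 0 := fun h => hN (by rw [h, emb_zero, hzero_left hf, zero_mul]; exact zero_mem _)
  have hfq := D.f_emb_zero hqq
  have hσF : ∀ x ∈ F₀, σ x ∈ F₀ := fun x hx => by
    rw [show σ x = D.σ₀ ⟨x, hx⟩ from (D.σ₀_coe ⟨x, hx⟩).symm]; exact SetLike.coe_mem _
  by_cases hsmall : ∀ x : F, x ∈ F₀ → σ x = x → x = 0 ∨ x = 1
  · -- the field of four elements
    have h2 : (2 : F) = 0 := by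
      rcases hsmall 2 (natCast_mem F₀ 2) (map_ofNat σ 2) with h | h
      · exact h
      · exfalso
        exact one_ne_zero (α := F) (by linear_combination h)
    haveI : CharP F 2 := CharTwo.of_one_ne_zero_of_two_eq_zero one_ne_zero h2
    have hc1 : (c₀ : F) = 1 := (hsmall c₀ c₀.2 (by
      rw [eq_neg_of_add_eq_zero_right hc₀', CharTwo.neg_eq])).resolve_left hc₀0'
    by_cases hseed : ∀ a : ι → F₀, a ≠ 0 → D.f₀ a a = 0 →
        ∀ c, c + σ c = 0 → ut f (emb a) c ∈ L → c ∈ F₀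
    · exfalso
      exact no_irrational D h3 hsmall hseed hh hee (by rw [← hc1]; exact hirr)
    push Not at hseed
    obtain ⟨b, hb0, hbb, c, hc, hcL, hcn⟩ := hseed
    have hfb := D.f_emb_zero hbb
    obtain ⟨d, hdb, hdd, -⟩ := exists_dual_iso D.hf₀ (⊥ : Submodule F₀ (ι → F₀)) (a := b)
      (by simpa using hb0) (by simp; omega)
    have hadd : ∀ x y : F, ut f (emb b) (x + y) = ut f (emb b) x * ut f (emb b) y := fun x y =>
      MaxSub.gl_ext fun z => by
        rw [Units.val_mul, ← mulVec_mulVec, ut_mulVec hf hfb, ut_mulVec hf hfb, ut_mulVec hf hfb,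
          hf.add_left, hf.smul_left, hfb, mul_zero, add_zero]
        module
    let U : AddSubgroup F :=
      { carrier := {x | x + σ x = 0 ∧ ut f (emb b) x ∈ L}
        zero_mem' := ⟨by simp, by
          have : ut f (emb b) (0 : F) = 1 := MaxSub.gl_ext fun x => by
            rw [ut_mulVec hf hfb]; simp
          rw [this]; exact one_mem _⟩
        add_mem' := fun {x y} hx hy =>
          ⟨by rw [map_add]; linear_combination hx.1 + hy.1, by rw [hadd]; exact mul_mem hx.2 hy.2⟩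
        neg_mem' := fun {x} hx => by
          show -x + σ (-x) = 0 ∧ _
          rw [CharTwo.neg_eq]; exact hx }
    refine ⟨b, hb0, hbb, centre_of_plane D hr hr2 hq hfb (D.f_emb_zero hdd)
      (by rw [D.f_emb, hdb]; rfl) U (fun x hx => hx) (fun k hk hσk x hx => ?_) hc₀'
      (D.ut_mem hdd hc₀) (c₁ := c) (c₂ := c₀) ⟨hc, hcL⟩ ⟨hc₀', D.ut_mem hbb hc₀⟩ hc₀0' ?_ ?_⟩
    · rcases hsmall k hk hσk with rfl | rfl
      · rw [zero_mul]; exact U.zero_mem
      · rw [one_mul]; exact hx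
    · intro h0
      exact hcn (by rw [eq_neg_of_add_eq_zero_left h0]; exact neg_mem c₀.2)
    · rw [hc1, one_mul]; exact hcn
  push Not at hsmall
  obtain ⟨k, hk, hσk, hk0, hk1⟩ := hsmall
  -- a rational real number different from `0` and `-1`
  obtain ⟨m, hm, hσm, hm0, hm1⟩ : ∃ m ∈ F₀, σ m = m ∧ m ≠ 0 ∧ m ≠ -1 := by
    by_cases hkn : k = -1
    · exact ⟨1, one_mem _, map_one σ, one_ne_zero, fun h => hk1 (hkn.trans h.symm)⟩
    · exact ⟨k, hk, hσk, hk0, hkn⟩
  let U : AddSubgroup F :=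
    { carrier := {x | x ∈ F₀ ∧ x + σ x = 0}
      zero_mem' := ⟨zero_mem _, by simp⟩
      add_mem' := fun {x y} hx hy =>
        ⟨add_mem hx.1 hy.1, by rw [map_add]; linear_combination hx.2 + hy.2⟩
      neg_mem' := fun {x} hx => ⟨neg_mem hx.1, by rw [map_neg]; linear_combination -hx.2⟩ }
  set s := f u (emb q) with hs
  have hs0 : s ≠ 0 := fun h => hN (by rw [h, mul_zero]; exact zero_mem _)
  have hud : u = s • (s⁻¹ • u) := by rw [smul_smul, mul_inv_cancel₀ hs0, one_smul]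
  have hdd : f (s⁻¹ • u) (s⁻¹ • u) = 0 := by rw [hf.smul_left, hsmul_right hf, huu]; simp
  have hTd : ut f (s⁻¹ • u) ((c₀ : F) * (σ s * s)) ∈ L := by
    rw [← ut_smul hf hdd, ← hud]; exact hTu
  refine ⟨q, hq0, hqq, centre_of_plane D hr hr2 hq hfq hdd
    (by rw [hf.smul_left, ← hs, inv_mul_cancel₀ hs0]) U
    (fun x hx => ⟨hx.2, by simpa using D.ut_mem (c := ⟨x, hx.1⟩) hqq (Subtype.ext (by
      rw [Subfield.coe_add, D.σ₀_coe]; exact hx.2))⟩)
    (fun j hj hσj x hx => ⟨mul_mem hj hx.1, by rw [map_mul, hσj, ← mul_add, hx.2, mul_zero]⟩)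
    ?_ hTd (c₁ := c₀) (c₂ := m * c₀) ⟨c₀.2, hc₀'⟩
    ⟨mul_mem hm c₀.2, by rw [map_mul, hσm, ← mul_add, hc₀', mul_zero]⟩
    (mul_ne_zero hm0 hc₀0') ?_ ?_⟩
  · rw [map_mul, map_mul, hf.involutive]; linear_combination (σ s * s) * hc₀'
  · intro h0
    have : (1 + m) * (c₀ : F) = 0 := by linear_combination h0
    exact hm1 (by linear_combination (mul_eq_zero.1 this).resolve_right hc₀0')
  · intro hmem
    refine hN ?_
    have := div_mem hmem (mul_mem c₀.2 c₀.2)
    rw [hs, ← hf.herm (emb q) u] at this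
    convert this using 1
    field_simp
    rw [hs]

/-- All isotropic vectors are centres. -/
theorem all_centres (D : Data σ f F₀ L) (h3 : Fintype.card ι = 3) {c₀ : F₀}
    (hc₀ : c₀ + D.σ₀ c₀ = 0) (hc₀0 : c₀ ≠ 0) {q : ι → F₀} (hq0 : q ≠ 0) (hqq : D.f₀ q q = 0)
    (hcq : Centre σ f L (emb q)) : ∀ v, f v v = 0 → Centre σ f L v := by
  have hf := D.hf
  have hfq := D.f_emb_zero hqq
  have step : ∀ a : ι → F₀, D.f₀ a a = 0 → D.f₀ q a ≠ 0 → Centre σ f L (emb a) := by
    intro a haa hqa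
    have hfa := D.f_emb_zero haa
    set β := D.f₀ q a with hβ
    have hσc : D.σ₀ c₀ = -c₀ := eq_neg_of_add_eq_zero_right hc₀
    have hσβ : D.σ₀ β ≠ 0 := (map_ne_zero D.σ₀).2 hqa
    set t : F₀ := -(c₀ * (β * D.σ₀ β))⁻¹ with ht
    have htskew : t + D.σ₀ t = 0 := by
      rw [ht, map_neg, map_inv₀, map_mul, map_mul, hσc, D.hf₀.involutive,
        mul_comm (D.σ₀ β) β, neg_mul, inv_neg, neg_neg, neg_add_cancel]
    have hk := mul_mem (D.ut_mem hqq htskew) (D.ut_mem haa hc₀)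
    have h1 := centre_map hf hcq hk (D.isom_of_mem hk)
    have himg : ((ut f (emb q) t * ut f (emb a) c₀ : GL ι F) : Matrix ι ι F) *ᵥ emb q =
        ((c₀ * β : F₀) : F) • emb a := by
      rw [Units.val_mul, ← mulVec_mulVec, ut_mulVec hf hfa, ut_mulVec hf hfq, hf.add_left,
        hf.smul_left, hfq, D.f_emb, D.f_emb, ← hβ, D.hf₀.herm a q, ← hβ]
      have e1 : (t : F) * ((c₀ : F) * β * (D.σ₀ β : F)) = -1 := by
        have : t * (c₀ * β * D.σ₀ β) = -1 := by
          rw [ht, neg_mul, mul_assoc c₀, inv_mul_cancel₀ (mul_ne_zero hc₀0 (mul_ne_zero hqa hσβ))]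
        have h := congrArg Subtype.val this
        push_cast at h
        exact h
      rw [zero_add, Subfield.coe_mul, e1]
      module
    rw [himg] at h1
    have hne : ((c₀ * β : F₀) : F) ≠ 0 := fun h => mul_ne_zero hc₀0 hqa (Subtype.ext h)
    have h2 := centre_smul hf h1 ((c₀ * β : F₀) : F)⁻¹
    rwa [smul_smul, inv_mul_cancel₀ hne, one_smul] at h2
  obtain ⟨d, hdq, hdd, -⟩ := exists_dual_iso D.hf₀ (⊥ : Submodule F₀ (ι → F₀)) (a := q)
    (by simpa using hq0) (by simp; omega)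
  have hqd : D.f₀ q d = 1 := by rw [D.hf₀.herm, hdq, map_one]
  obtain ⟨w, hw0, hwd, hwq⟩ := SubfieldOdd.exists_pole D.hf₀ h3 (v := d) (e := q)
  have hww : D.f₀ w w ≠ 0 := fun h0 => by
    obtain ⟨s, hs⟩ := prop_of_orth D.hf₀ h3 h0 hqq hq0 hwq
    rw [hs, D.hf₀.smul_left, hqd, mul_one] at hwd
    exact hw0 (by rw [hs, hwd, zero_smul])
  obtain ⟨τ, hτ⟩ := exists_trace D.hf₀ (r := -(D.f₀ w w)) (by rw [map_neg, ← D.hf₀.herm])
  have hgg : D.f₀ (w + τ • q + d) (w + τ • q + d) = 0 := by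
    simp [D.hf₀.add_left, hadd_right D.hf₀, D.hf₀.smul_left, hsmul_right D.hf₀, hqq, hdd, hdq,
      hqd, hwq, hwd, hswap_zero D.hf₀ hwq, hswap_zero D.hf₀ hwd]
    linear_combination hτ
  have hcg := step (w + τ • q + d) hgg (by
    simp [hadd_right D.hf₀, hsmul_right D.hf₀, hqq, hqd, hswap_zero D.hf₀ hwq])
  refine centre_of_three hf h3 (w := emb w) hcq (step d hdd (by rw [hqd]; exact one_ne_zero))
    (by rw [D.f_emb, hqd]; exact fun h => one_ne_zero (α := F) h) (D.f_emb_zero hwq)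
    (D.f_emb_zero hwd) hcg ?_
  rw [D.f_emb, D.hf₀.add_left, D.hf₀.add_left, D.hf₀.smul_left, hswap_zero D.hf₀ hwq,
    hswap_zero D.hf₀ hwd, mul_zero, add_zero, add_zero]
  exact fun h => hww (Subtype.ext h)

end SubfieldOdd

/-- For `n = 3` the unitary subfield groups of odd prime index are maximal. -/
theorem oddIndex_isMaximalIn_three {F : Type*} [Field F] [Fintype F] (n q : ℕ) (hF : Fintype.card F = q ^ 2) (hn : n = 3) (hq3 : 3 ≤ q) (F₀ : Subfield F) (r : ℕ) (hr : r.Prime) (hro : Odd r) (hcard : Fintype.card F = Nat.card F₀ ^ r) (P : Matrix.GeneralLinearGroup (Fin n) F) (hP : Cfsg.Geo.IsFormRationalStructure (Cfsg.hermForm n F q) F₀ 1 P) : Cfsg.Geo.IsMaximalIn (Cfsg.GU n F q ⊓ Cfsg.Geo.specialLinear (Fin n) F) (Cfsg.Geo.subfieldSubgroup F₀ P ⊓ (Cfsg.GU n F q ⊓ Cfsg.Geo.specialLinear (Fin n) F)) := by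
  classical
  open Cfsg.Agent.MaxSub Cfsg.Agent.MaxSub.SubfieldHerm Cfsg.Agent.HermStab SubfieldOdd in
  exact (by
    obtain ⟨σ, hσ, hf₁⟩ := exists_setup (n := n) hF
    have hq : Nat.card F = Nat.card F₀ ^ r := by rw [Nat.card_eq_fintype_card]; exact hcard
    let f : (Fin n → F) → (Fin n → F) → F := fun x y =>
      Cfsg.hermForm n F q ((P : Matrix (Fin n) (Fin n) F) *ᵥ x)
        ((P : Matrix (Fin n) (Fin n) F) *ᵥ y)
    have hsurj : ∀ y : Fin n → F, ∃ x, (P : Matrix (Fin n) (Fin n) F) *ᵥ x = y := fun y =>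
      ⟨_, mulVec_inv_mulVec P y⟩
    have hf : Cfsg.Geo.IsUnitaryForm σ f :=
      ⟨hf₁.ne_refl, hf₁.involutive,
        fun x y v => by simp only [f, mulVec_add]; exact hf₁.add_left _ _ _,
        fun c x v => by simp only [f, mulVec_smul]; exact hf₁.smul_left _ _ _,
        fun v w => hf₁.herm _ _, fun v hv => by
          obtain ⟨⟨x, hx⟩, ⟨x', hx'⟩⟩ := hf₁.nondegenerate _ (mulVec_ne_zero P hv)
          obtain ⟨a, rfl⟩ := hsurj x
          obtain ⟨a', rfl⟩ := hsurj x'
          exact ⟨⟨a, hx⟩, ⟨a', hx'⟩⟩⟩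
    have hrat : ∀ u v : Fin n → F₀, f (emb u) (emb v) ∈ F₀ := fun u v => by
      simpa using hP (emb u) (emb v) (fun i => (u i).2) fun i => (v i).2
    have hstab : ∀ x ∈ F₀, σ x ∈ F₀ := fun x hx => by rw [hσ]; exact pow_mem hx q
    let s₀ : F₀ → F₀ := fun x => ⟨σ x, hstab x x.2⟩
    have hs₀ : ∀ x, s₀ (s₀ x) = x := fun x => Subtype.ext (hf₁.involutive x)
    let σ₀ : F₀ ≃+* F₀ :=
      { toFun := s₀
        invFun := s₀
        left_inv := hs₀
        right_inv := hs₀
        map_mul' := fun x y => Subtype.ext (map_mul σ (x : F) y)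
        map_add' := fun x y => Subtype.ext (map_add σ (x : F) y) }
    have hnefix : ¬ ∀ x ∈ F₀, σ x = x := by
      intro hfix
      obtain ⟨a, ha⟩ : ∃ a, σ a ≠ a := by
        by_contra h
        push Not at h
        exact hf₁.ne_refl (RingEquiv.ext h)
      have hsq := card_eq_sq hf₁.involutive (⊤ : Subfield F)
        (fun x _ => Subfield.mem_top _) (Subfield.mem_top a) ha
      rw [top_inf_eq, Nat.card_congr Subfield.topEquiv.toEquiv] at hsq
      rcases prime_index F₀ hr hq (realPart σ) hfix with h | h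
      · rw [h, hq] at hsq
        have := Nat.pow_right_injective (Finite.one_lt_card : 1 < Nat.card F₀) hsq
        subst this
        exact absurd hro (by decide)
      · exact ha (show a ∈ realPart σ from h ▸ Subfield.mem_top a)
    let f₀ : (Fin n → F₀) → (Fin n → F₀) → F₀ := fun u v => ⟨_, hrat u v⟩
    have hf₀ : Cfsg.Geo.IsUnitaryForm σ₀ f₀ := by
      refine ⟨fun h => hnefix fun x hx => congrArg Subtype.val (RingEquiv.congr_fun h ⟨x, hx⟩),
        hs₀, fun x y v => Subtype.ext (hf.add_left _ _ _),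
        fun c x v => Subtype.ext (hf.smul_left _ _ _),
        fun v w => Subtype.ext (hf.herm _ _), fun v hv => ?_⟩
      have hv0 : emb v ≠ 0 := fun h => hv (emb_injective (h.trans emb_zero.symm))
      have key : ∃ w, f₀ v w ≠ 0 := by
        by_contra h
        push Not at h
        obtain ⟨x, hx⟩ := (hf.nondegenerate _ hv0).2
        refine hx (hswap_zero hf ?_)
        rw [← hl_apply hf, pi_eq_sum_univ' x, map_sum]
        refine Finset.sum_eq_zero fun i _ => ?_
        have h1 : f (emb v) (emb (Pi.single i (1 : F₀))) = 0 := congrArg Subtype.val (h _)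
        have he : emb (Pi.single i (1 : F₀)) = Pi.single i (1 : F) := funext fun l => by
          show ((Pi.single i (1 : F₀) : Fin n → F₀) l : F) = _
          rw [Pi.single_apply, Pi.single_apply]
          split_ifs <;> rfl
        rw [map_smul, hl_apply, hswap_zero hf (he ▸ h1), smul_zero]
      obtain ⟨w, hw⟩ := key
      exact ⟨⟨w, fun h => hw (Subtype.ext (hswap_zero hf (congrArg Subtype.val h)))⟩, ⟨w, hw⟩⟩
    let G := Cfsg.GU n F q ⊓ Cfsg.Geo.specialLinear (Fin n) F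
    let M₀ := (Matrix.GeneralLinearGroup.map (F₀.subtype : F₀ →+* F)).range ⊔
      Cfsg.Geo.scalars (Fin n) F
    have hG : ∀ k : Matrix.GeneralLinearGroup (Fin n) F, k ∈ su f ↔ P * k * P⁻¹ ∈ G := by
      intro k
      have hdet : k ∈ Cfsg.Geo.specialLinear (Fin n) F ↔
          P * k * P⁻¹ ∈ Cfsg.Geo.specialLinear (Fin n) F := by
        show Matrix.GeneralLinearGroup.det k = 1 ↔
          Matrix.GeneralLinearGroup.det (P * k * P⁻¹) = 1
        rw [map_mul, map_mul, map_inv, mul_comm (Matrix.GeneralLinearGroup.det P),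
          mul_inv_cancel_right]
      refine and_congr ?_ hdet
      constructor
      · intro h x y
        obtain ⟨a, rfl⟩ := hsurj x
        obtain ⟨b, rfl⟩ := hsurj y
        show Cfsg.hermForm n F q ((P * k * P⁻¹ : Matrix.GeneralLinearGroup (Fin n) F).1 *ᵥ _)
          ((P * k * P⁻¹ : Matrix.GeneralLinearGroup (Fin n) F).1 *ᵥ _) = _
        simp only [Units.val_mul, ← mulVec_mulVec, inv_mulVec_mulVec]
        exact h a b
      · intro h a b
        have h' : Cfsg.hermForm n F q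
            ((P * k * P⁻¹ : Matrix.GeneralLinearGroup (Fin n) F).1 *ᵥ
              ((P : Matrix (Fin n) (Fin n) F) *ᵥ a))
            ((P * k * P⁻¹ : Matrix.GeneralLinearGroup (Fin n) F).1 *ᵥ
              ((P : Matrix (Fin n) (Fin n) F) *ᵥ b)) = _ :=
          h ((P : Matrix (Fin n) (Fin n) F) *ᵥ a) ((P : Matrix (Fin n) (Fin n) F) *ᵥ b)
        simp only [Units.val_mul, ← mulVec_mulVec, inv_mulVec_mulVec] at h'
        exact h'
    have hM : ∀ x : Matrix.GeneralLinearGroup (Fin n) F,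
        x ∈ Cfsg.Geo.subfieldSubgroup F₀ P ↔ P⁻¹ * x * P ∈ M₀ := by
      intro x
      refine ⟨?_, fun h => ⟨_, h, by simp [mul_assoc]⟩⟩
      rintro ⟨y, hy, rfl⟩
      simpa [mul_assoc] using hy
    have hnc : Fintype.card (Fin n) = 3 := by rw [Fintype.card_fin]; exact hn
    obtain ⟨c₀, hc₀0, hc₀⟩ := exists_skew hf₀
    have hc₀' : (c₀ : F) + σ c₀ = 0 := congrArg Subtype.val hc₀
    have hc₀0' : (c₀ : F) ≠ 0 := fun h => hc₀0 (Subtype.ext h)
    refine isMaximalIn_of inf_le_right ?_ ?_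
    · -- a transvection outside
      obtain ⟨e, he0, hee, -⟩ := exists_generic hf₀ (⊥ : Submodule F₀ (Fin n → F₀)) (by simp; omega)
      simp only [Submodule.mem_bot] at he0
      have hee' : f (emb e) (emb e) = 0 := congrArg Subtype.val hee
      obtain ⟨d, hde, -, -⟩ := exists_dual_iso hf₀ (⊥ : Submodule F₀ (Fin n → F₀)) (a := e)
        (by simpa using he0) (by simp; omega)
      have hde' : f (emb d) (emb e) = 1 := congrArg Subtype.val hde
      obtain ⟨l, hlr, hl0⟩ : ∃ l, σ l = l ∧ l ∉ F₀ := by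
        by_contra h
        push Not at h
        obtain ⟨a, ha, haσ⟩ : ∃ a ∈ F₀, σ a ≠ a := by
          by_contra h'
          push Not at h'
          exact hnefix h'
        have h1 := card_eq_sq hf₁.involutive F₀ hstab ha haσ
        have h2 := card_eq_sq hf₁.involutive (⊤ : Subfield F)
          (fun x _ => Subfield.mem_top _) (Subfield.mem_top a) haσ
        rw [top_inf_eq, Nat.card_congr Subfield.topEquiv.toEquiv] at h2
        rw [inf_eq_right.2 (show realPart σ ≤ F₀ from fun x hx => h x hx)] at h1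
        rw [← h1, hq] at h2
        exact hr.one_lt.ne' (Nat.pow_right_injective (Finite.one_lt_card : 1 < Nat.card F₀)
          (h2.trans (pow_one _).symm))
      set T := ut f (emb e) (l * c₀)
      have hskew : l * (c₀ : F) + σ (l * c₀) = 0 := by
        rw [map_mul, hlr]; linear_combination l * hc₀'
      refine ⟨P * T * P⁻¹, (hG T).1 (ut_mem_su hf hee' hskew), fun hm => ?_⟩
      have hm' : T ∈ M₀ := by
        have := (hM _).1 (Subgroup.mem_inf.1 hm).1
        simpa [mul_assoc] using this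
      obtain ⟨s, hs, hsr⟩ := exists_scaled hm'
      -- the image of a rational vector is `s` times a rational one
      have himg : ∀ x : Fin n → F₀, ∀ i, ((T : Matrix (Fin n) (Fin n) F) *ᵥ emb x) i / s ∈ F₀ := by
        intro x i
        rw [mulVec, dotProduct, Finset.sum_div]
        refine sum_mem fun j _ => ?_
        rw [mul_div_right_comm]
        exact mul_mem (hsr i j) (x j).2
      obtain ⟨i, hi⟩ := Function.ne_iff.1 he0
      have hi' : (e i : F) ≠ 0 := fun h => hi (Subtype.ext h)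
      have hs1 : s ∈ F₀ := by
        have h1 := himg e i
        rw [ut_mulVec hf hee', hee', mul_zero, zero_smul, add_zero] at h1
        have := div_mem (e i).2 h1
        rwa [div_div_cancel₀ hi'] at this
      have h1 := himg d i
      rw [ut_mulVec hf hee', hde', mul_one] at h1
      have h2 := mul_mem h1 hs1
      rw [div_mul_cancel₀ _ hs, Pi.add_apply, Pi.smul_apply, smul_eq_mul] at h2
      have h3 := div_mem (div_mem (sub_mem h2 (d i).2) (e i).2) c₀.2
      refine hl0 ?_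
      convert h3 using 1
      field_simp
      ring
    intro M hMM hMG g hg hgM
    let L := M.comap (MulAut.conj P).toMonoidHom
    let D : Data σ f F₀ L :=
      { σ₀ := σ₀
        σ₀_coe := fun x => rfl
        f₀ := f₀
        f₀_coe := fun u v => rfl
        hf₀ := hf₀
        hf := hf
        le_su := fun k hk => (hG k).2 (hMG hk)
        rat_mem := fun k hk hrk => by
          show P * k * P⁻¹ ∈ M
          refine hMM (Subgroup.mem_inf.2 ⟨(hM _).2 ?_, (hG k).1 hk⟩)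
          have : k ∈ M₀ := Subgroup.mem_sup_left (exists_rat_mat F₀ hrk)
          simpa [mul_assoc] using this }
    set h := P⁻¹ * g * P with hh
    have hhL : h ∈ L := by show P * h * P⁻¹ ∈ M; simpa [hh, mul_assoc] using hg
    have hhM : ¬ ∃ s : F, s ≠ 0 ∧ ∀ i j, (h : Matrix (Fin n) (Fin n) F) i j / s ∈ F₀ := by
      rintro ⟨s, hs, hsr⟩
      refine hgM (Subgroup.mem_inf.2 ⟨(hM g).2 ?_, hMG hg⟩)
      let z : Matrix.GeneralLinearGroup (Fin n) F :=
        Units.map (Matrix.scalar (Fin n) : F →+* _).toMonoidHom (Units.mk0 s hs)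
      have hz : z ∈ Cfsg.Geo.scalars (Fin n) F := ⟨_, rfl⟩
      have hk : h * z⁻¹ ∈ (Matrix.GeneralLinearGroup.map (F₀.subtype : F₀ →+* F)).range := by
        refine exists_rat_mat F₀ fun i j => ?_
        rw [Units.val_mul, show ((z⁻¹ : Matrix.GeneralLinearGroup (Fin n) F) :
          Matrix (Fin n) (Fin n) F) = Matrix.scalar (Fin n) s⁻¹ from rfl, Matrix.scalar_apply,
          Matrix.mul_diagonal]
        rw [← div_eq_mul_inv]
        exact hsr i j
      have := mul_mem (Subgroup.mem_sup_left hk) (Subgroup.mem_sup_right hz : z ∈ M₀)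
      rwa [inv_mul_cancel_right] at this
    obtain ⟨e, hee, hirr⟩ := exists_irr_three D hnc (D.isom_of_mem hhL) c₀.2 hc₀0' hhM
    obtain ⟨b, hb0, hbb, hcb⟩ := exists_centre D hnc hr
      (fun e2 => by subst e2; exact absurd hro (by decide)) hq hc₀ hc₀0 hhL hee hirr
    have hall := all_centres D hnc hc₀ hc₀0 hb0 hbb hcb
    subst hn
    refine le_of_centres hF hq3 hσ hf₁ fun v hv => ⟨hv, fun c hc => ?_⟩
    obtain ⟨x, rfl⟩ := hsurj v
    have hmem : P * ut f x c * P⁻¹ ∈ M := (hall x hv).2 c hc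
    convert hmem using 1
    refine MaxSub.gl_ext fun y => ?_
    obtain ⟨a, rfl⟩ := hsurj y
    rw [Units.val_mul, Units.val_mul, ← mulVec_mulVec, ← mulVec_mulVec, inv_mulVec_mulVec,
      ut_mulVec hf₁ hv, ut_mulVec hf hv, mulVec_add, mulVec_smul])

/-- Clause (5) of the geometric maximal subgroups of `SU 3 q`. -/
theorem oddIndex_maximal {F : Type*} [Field F] [Fintype F] (q : ℕ) (hF : Fintype.card F = q ^ 2)
    (hq : 3 ≤ q) :
    (∀ (F₀ : Subfield F) (r : ℕ) (P : Matrix.GeneralLinearGroup (Fin 3) F), r.Prime → Odd r → Fintype.card F = Nat.card F₀ ^ r → Cfsg.Geo.IsFormRationalStructure (Cfsg.hermForm 3 F q) F₀ 1 P → Cfsg.Geo.IsMaximalIn (Cfsg.GU 3 F q ⊓ Cfsg.Geo.specialLinear (Fin 3) F) (Cfsg.Geo.subfieldSubgroup F₀ P ⊓ (Cfsg.GU 3 F q ⊓ Cfsg.Geo.specialLinear (Fin 3) F))) :=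
  fun F₀ r P hr hro hcard hP =>
    oddIndex_isMaximalIn_three 3 q hF rfl hq F₀ r hr hro hcard P hP

end Cfsg.Agent.SU3Geo98
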