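import Mathlib.GroupTheory.Index
import Mathlib.GroupTheory.GroupAction.Quotient
import Mathlib.Algebra.Order.BigOperators.Group.Finset
import Mathlib.Tactic.Linarith
import Mathlib.Tactic.Ring

/-!
A group acting with kernel `Z`, at most two fixed points outside `Z` and two different orbits with
the same large stabiliser does not exist (helper32).
-/

set_option autoImplicit false

namespace Cfsg.Agent.SU3Geo98.Lines

open Finset (univ)

variable {G Ω : Type*} [Group G] [MulAction G Ω]

theorem count_false [Finite G] [Fintype Ω] (Z : Subgroup G) (e e' : Ω) (m : ℕ) (hm : 3 ≤ m)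
    (hZ : ∀ g ∈ Z, ∀ x : Ω, g • x = x) (hee : e' ∉ MulAction.orbit G e)
    (hst : MulAction.stabilizer G e' = MulAction.stabilizer G e)
    (hcard : m * Nat.card Z ≤ Nat.card (MulAction.stabilizer G e))
    (hmv : ∃ g : G, g • e ≠ e)
    (hfix : ∀ g ∉ Z, Nat.card {x : Ω // g • x = x} ≤ 2)
    (hex : ∀ g ∉ Z, ∃ x : Ω, g • x = x)
    (hsq : 4 ≤ m ∨ ∀ g ∉ Z, g * g ∈ Z → Nat.card {x : Ω // g • x = x} ≤ 1) : False := by
  classical
  have := Fintype.ofFinite G
  let fx : G → ℕ := fun g => (univ.filter fun x : Ω => g • x = x).card
  have hfx : ∀ g, Nat.card {x : Ω // g • x = x} = fx g := fun g => by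
    rw [Nat.card_eq_fintype_card, Fintype.card_subtype]
  let st : Ω → ℕ := fun x => (univ.filter fun g : G => g ∉ Z ∧ g • x = x).card
  let N : Finset G := univ.filter fun g => g ∉ Z
  obtain ⟨z, hz⟩ : ∃ z, Nat.card Z = z := ⟨_, rfl⟩
  have hz0 : 0 < z := hz ▸ Nat.card_pos
  have hT : ∑ g ∈ N, fx g = ∑ x : Ω, st x := by
    simp only [fx, st, Finset.card_filter, N]
    rw [Finset.sum_comm]
    refine Finset.sum_congr rfl fun x _ => ?_
    rw [Finset.sum_filter]
    exact Finset.sum_congr rfl fun g _ => by split_ifs <;> simp_all
  have hN : N.card + z = Fintype.card G := by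
    rw [← hz, Nat.card_eq_fintype_card, Fintype.card_subtype, ← Finset.card_univ,
      ← Finset.card_filter_add_card_filter_not (s := (univ : Finset G)) (p := fun g => g ∉ Z)]
    simp [N]
  have hle : ∀ g ∈ N, fx g ≤ 2 := fun g hg => hfx g ▸ hfix g (Finset.mem_filter.mp hg).2
  have hstc : ∀ x : Ω, st x + z = Nat.card (MulAction.stabilizer G x) := by
    intro x
    rw [Nat.card_eq_fintype_card, Fintype.card_subtype, ← hz, Nat.card_eq_fintype_card,
      Fintype.card_subtype,
      ← Finset.card_filter_add_card_filter_not
        (s := univ.filter fun g : G => g ∈ MulAction.stabilizer G x)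
        (p := fun g => g ∉ Z), Finset.filter_filter, Finset.filter_filter]
    congr 1
    · exact congrArg Finset.card (Finset.ext fun g => by
        simp [MulAction.mem_stabilizer_iff, and_comm])
    · exact congrArg Finset.card (Finset.ext fun g => by
        simp only [Finset.mem_filter, Finset.mem_univ, true_and, not_not,
          MulAction.mem_stabilizer_iff]
        exact ⟨fun h => ⟨hZ g h x, h⟩, fun h => h.2⟩)
  have hOS : ∀ x : Ω, Nat.card (MulAction.stabilizer G x) * (MulAction.orbit G x).ncard =
      Fintype.card G := fun x => by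
    rw [← MulAction.index_stabilizer, Subgroup.card_mul_index, Nat.card_eq_fintype_card]
  have hdiv : ∀ x : Ω, ∃ a, Nat.card (MulAction.stabilizer G x) = z * a := fun x => hz ▸
    Subgroup.card_dvd_of_le fun g hg => MulAction.mem_stabilizer_iff.mpr (hZ g hg x)
  have hsame : ∀ x : Ω, ∀ y ∈ MulAction.orbit G x, st y = st x := fun x y hy => by
    have h1 := hOS x
    have h2 := hOS y
    rw [MulAction.orbit_eq_iff.mpr hy] at h2
    have hpos : 0 < (MulAction.orbit G x).ncard :=
      (Set.ncard_pos).mpr ⟨x, MulAction.mem_orbit_self x⟩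
    have := hstc x
    have := hstc y
    have := Nat.eq_of_mul_eq_mul_right hpos (h2.trans h1.symm)
    omega
  let orb : Ω → Finset Ω := fun x => univ.filter fun y => y ∈ MulAction.orbit G x
  have horb : ∀ x : Ω, (orb x).card = (MulAction.orbit G x).ncard := fun x => by
    rw [Set.ncard_eq_toFinset_card']; exact congrArg Finset.card (Finset.ext fun y => by simp [orb])
  have hsum : ∀ x : Ω, ∑ y ∈ orb x, st y + (MulAction.orbit G x).ncard * z = Fintype.card G :=
    fun x => by
    rw [Finset.sum_congr rfl fun y hy => hsame x y (Finset.mem_filter.mp hy).2, Finset.sum_const,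
      horb, smul_eq_mul, ← Nat.mul_add, hstc, mul_comm, hOS]
  have hdisj : ∀ x y : Ω, y ∉ MulAction.orbit G x → Disjoint (orb x) (orb y) := fun x y h => by
    refine Finset.disjoint_left.mpr fun w hw hw' => h ?_
    simp only [orb, Finset.mem_filter, Finset.mem_univ, true_and] at hw hw'
    rw [← MulAction.orbit_eq_iff.mpr hw, MulAction.orbit_eq_iff.mpr hw']
    exact MulAction.mem_orbit_self y
  obtain ⟨a, ha⟩ := hdiv e
  have ham : m ≤ a := by
    rw [ha, hz, mul_comm m] at hcard
    exact Nat.le_of_mul_le_mul_left hcard hz0
  obtain ⟨o, ho⟩ : ∃ o, (MulAction.orbit G e).ncard = o := ⟨_, rfl⟩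
  have hG : Fintype.card G = z * (a * o) := by rw [← hOS e, ha, ho, mul_assoc]
  have ho' : (MulAction.orbit G e').ncard = o := by
    have h := hOS e'
    rw [hst, ha, hG, mul_assoc] at h
    exact Nat.eq_of_mul_eq_mul_left (show 0 < a by omega) (Nat.eq_of_mul_eq_mul_left hz0 h)
  have he1 := hsum e
  have he2 := hsum e'
  rw [ho] at he1
  rw [ho'] at he2
  have hsum2 : ∑ g ∈ N, fx g ≤ 2 * N.card := by
    rw [mul_comm, ← smul_eq_mul, ← Finset.sum_const]
    exact Finset.sum_le_sum hle
  let R : Finset Ω := univ \ (orb e ∪ orb e')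
  have hsplit : ∑ x : Ω, st x = ∑ y ∈ orb e, st y + ∑ y ∈ orb e', st y + ∑ y ∈ R, st y := by
    rw [← Finset.sum_union (hdisj e e' hee), ← Finset.sum_sdiff (Finset.subset_univ (orb e ∪ orb e'))]
    ring
  by_cases hR : ∃ x ∈ R, st x ≠ 0
  · obtain ⟨x, hxR, hx0⟩ := hR
    simp only [R, Finset.mem_sdiff, Finset.mem_union, not_or] at hxR
    have hsub : orb x ⊆ R := by
      intro y hy
      simp only [R, Finset.mem_sdiff, Finset.mem_union, not_or, Finset.mem_univ, true_and]
      simp only [orb, Finset.mem_filter, Finset.mem_univ, true_and] at hy hxR ⊢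
      constructor <;> intro h
      · exact hxR.1 (by
          rw [← MulAction.orbit_eq_iff.mpr h, MulAction.orbit_eq_iff.mpr hy]
          exact MulAction.mem_orbit_self x)
      · exact hxR.2 (by
          rw [← MulAction.orbit_eq_iff.mpr h, MulAction.orbit_eq_iff.mpr hy]
          exact MulAction.mem_orbit_self x)
    obtain ⟨k, hk⟩ := hdiv x
    have hk2 : 2 ≤ k := by
      have := hstc x
      rcases k with _ | _ | k
      · have := Nat.card_pos (α := MulAction.stabilizer G x)
        rw [hk, mul_zero] at this
        exact absurd this (lt_irrefl 0)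
      · rw [hk] at this; omega
      · omega
    obtain ⟨o₂, ho₂⟩ : ∃ o₂, (MulAction.orbit G x).ncard = o₂ := ⟨_, rfl⟩
    have hG₂ : Fintype.card G = z * (k * o₂) := by rw [← hOS x, hk, ho₂, mul_assoc]
    have hko : a * o = k * o₂ := Nat.eq_of_mul_eq_mul_left hz0 (hG.symm.trans hG₂)
    have he3 := hsum x
    rw [ho₂] at he3
    have hsubR : ∑ y ∈ orb x, st y ≤ ∑ y ∈ R, st y := Finset.sum_le_sum_of_subset hsub
    by_cases hbig : 4 ≤ a ∨ 3 ≤ k
    · have key : z * (k * o₂ + 2) ≤ z * (2 * o + o₂) := by linarith
      have key' := Nat.le_of_mul_le_mul_left key hz0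
      rcases hbig with h4 | h3
      · have := Nat.mul_le_mul_right o h4
        have := Nat.mul_le_mul_right o₂ hk2
        omega
      · have := Nat.mul_le_mul_right o (show 3 ≤ a by omega)
        have := Nat.mul_le_mul_right o₂ h3
        omega
    · have hk' : k = 2 := by omega
      have ha' : a = 3 := by omega
      have hsq' := hsq.resolve_left (by omega)
      let One : Finset G := N.filter fun g => fx g ≤ 1
      have h2 : ∑ g ∈ N, fx g + One.card ≤ 2 * N.card := by
        rw [Finset.card_filter, ← Finset.sum_add_distrib, mul_comm, ← smul_eq_mul,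
          ← Finset.sum_const]
        refine Finset.sum_le_sum fun g hg => ?_
        have := hle g hg
        split_ifs <;> omega
      have hOne : ∑ y ∈ orb x, st y ≤ One.card := by
        calc ∑ y ∈ orb x, st y = ∑ g ∈ N, ((orb x).filter fun y => g • y = y).card := by
              simp only [st, N, Finset.card_filter]
              rw [Finset.sum_comm (s := univ.filter fun g : G => g ∉ Z)]
              refine Finset.sum_congr rfl fun y _ => ?_
              rw [Finset.sum_filter]
              exact Finset.sum_congr rfl fun g _ => by split_ifs <;> simp_all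
          _ ≤ One.card := by
              rw [Finset.card_filter]
              refine Finset.sum_le_sum fun g hg => ?_
              by_cases h0 : ((orb x).filter fun y => g • y = y).card = 0
              · simp [h0]
              obtain ⟨y, hy⟩ := Finset.card_pos.mp (Nat.pos_of_ne_zero h0)
              obtain ⟨hyo, hgy⟩ := Finset.mem_filter.mp hy
              have hgZ := (Finset.mem_filter.mp hg).2
              have hyst : Nat.card (MulAction.stabilizer G y) = z * 2 := by
                rw [← hstc y, hsame x y (Finset.mem_filter.mp hyo).2, hstc x, hk, hk']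
              have hZy : Z ≤ MulAction.stabilizer G y := fun h hh =>
                MulAction.mem_stabilizer_iff.mpr (hZ h hh y)
              have hidx : (Z.subgroupOf (MulAction.stabilizer G y)).index = 2 := by
                have h1 := Subgroup.card_mul_index (Z.subgroupOf (MulAction.stabilizer G y))
                rw [Nat.card_congr (Subgroup.subgroupOfEquivOfLe hZy).toEquiv, hz, hyst] at h1
                exact Nat.eq_of_mul_eq_mul_left hz0 h1
              have hgg := Subgroup.sq_mem_of_index_two hidx
                (⟨g, MulAction.mem_stabilizer_iff.mpr hgy⟩ : MulAction.stabilizer G y)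
              rw [Subgroup.mem_subgroupOf, sq, Subgroup.coe_mul] at hgg
              have h1 := hsq' g hgZ hgg
              rw [hfx] at h1
              rw [if_pos h1]
              exact (Finset.card_le_card (fun w hw =>
                Finset.mem_filter.mpr ⟨Finset.mem_univ w, (Finset.mem_filter.mp hw).2⟩)).trans h1
      subst hk' ha'
      have key : z * (2 * o₂ + 2) ≤ z * (2 * o) := by linarith
      have key' := Nat.le_of_mul_le_mul_left key hz0
      omega
  · simp only [not_exists, not_and, not_not] at hR
    have h0 : ∑ y ∈ R, st y = 0 := Finset.sum_eq_zero hR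
    have h2 : 2 * N.card ≤ ∑ g ∈ N, fx g := by
      rw [mul_comm, ← smul_eq_mul, ← Finset.sum_const]
      refine Finset.sum_le_sum fun g hg => ?_
      have hgZ := (Finset.mem_filter.mp hg).2
      obtain ⟨x, hx⟩ := hex g hgZ
      have hxO : x ∈ MulAction.orbit G e ∨ x ∈ MulAction.orbit G e' := by
        by_contra h
        simp only [not_or] at h
        have hxR : x ∈ R := by simp [R, orb, h.1, h.2]
        have : g ∈ univ.filter fun g : G => g ∉ Z ∧ g • x = x := by simp [hgZ, hx]
        exact (Finset.card_pos.mpr ⟨g, this⟩).ne' (hR x hxR)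
      have hne : ∀ h : G, h • e ≠ h • e' := fun h heq => hee (by
        rw [← smul_left_cancel h heq]; exact MulAction.mem_orbit_self e)
      have both : ∃ h : G, g • h • e = h • e ∧ g • h • e' = h • e' := by
        rcases hxO with ⟨h, rfl⟩ | ⟨h, rfl⟩
        · refine ⟨h, hx, ?_⟩
          have hm : h⁻¹ * g * h ∈ MulAction.stabilizer G e' := by
            rw [hst, MulAction.mem_stabilizer_iff, mul_smul, mul_smul, hx, inv_smul_smul]
          rw [MulAction.mem_stabilizer_iff, mul_smul, mul_smul, inv_smul_eq_iff] at hm
          exact hm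
        · refine ⟨h, ?_, hx⟩
          have hm : h⁻¹ * g * h ∈ MulAction.stabilizer G e := by
            rw [← hst, MulAction.mem_stabilizer_iff, mul_smul, mul_smul, hx, inv_smul_smul]
          rw [MulAction.mem_stabilizer_iff, mul_smul, mul_smul, inv_smul_eq_iff] at hm
          exact hm
      obtain ⟨h, h1, h2⟩ := both
      calc 2 = ({h • e, h • e'} : Finset Ω).card := (Finset.card_pair (hne h)).symm
        _ ≤ fx g := Finset.card_le_card fun w hw => by
          simp only [Finset.mem_insert, Finset.mem_singleton] at hw
          rcases hw with rfl | rfl <;> simp [h1, h2]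
    have key : z * (o * 2) ≤ z * 2 := by linarith
    have key' := Nat.le_of_mul_le_mul_left key hz0
    obtain ⟨g, hg⟩ := hmv
    have ho1 : o ≤ 1 := by omega
    exact hg ((Set.ncard_le_one (Set.toFinite _)).mp (ho ▸ ho1) _ (MulAction.mem_orbit e g) _
      (MulAction.mem_orbit_self e))

end Cfsg.Agent.SU3Geo98.Lines
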