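import Cfsg.Agent.UDec18.Main
import Cfsg.Agent.UDec18.Six

/-!
Three orthogonal lines in dimension three: without coordinate images a non-monomial element has
full columns, and some entry does not have norm one (helper32).
-/

set_option autoImplicit false
set_option linter.unusedSectionVars false

namespace Cfsg.Agent.SU3Geo98.Lines

open Matrix Cfsg.Agent.MaxSub Cfsg.Agent.HermStab Cfsg.Agent.UDec18
open Finset (univ)

variable {F : Type*} [Field F] [Fintype F] {q : ℕ}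
variable {σ : F ≃+* F} {f : (Fin 3 → F) → (Fin 3 → F) → F} {M : Subgroup (GL (Fin 3) F)}

local notation:73 g:74 " ◆ " x:73 => (Units.val g) *ᵥ x

theorem three_cases : ∀ a b c r : Fin 3, a ≠ b → a ≠ c → b ≠ c → r = a ∨ r = b ∨ r = c := by
  decide

theorem others : ∀ a : Fin 3, ∃ b c, a ≠ b ∧ a ≠ c ∧ b ≠ c := by decide

theorem univ_three {a b c : Fin 3} (hab : a ≠ b) (hac : a ≠ c) (hbc : b ≠ c) :
    (univ : Finset (Fin 3)) = {a, b, c} :=
  Finset.ext fun r => by simpa using three_cases a b c r hab hac hbc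

theorem sum_three {a b c : Fin 3} (hab : a ≠ b) (hac : a ≠ c) (hbc : b ≠ c) (φ : Fin 3 → F) :
    ∑ r, φ r = φ a + φ b + φ c := by
  rw [univ_three hab hac hbc, Finset.sum_insert (by simp [hab, hac]),
    Finset.sum_insert (by simp [hbc]), Finset.sum_singleton, add_assoc]

theorem prod_three {a b c : Fin 3} (hab : a ≠ b) (hac : a ≠ c) (hbc : b ≠ c) (φ : Fin 3 → F) :
    ∏ r, φ r = φ a * φ b * φ c := by
  rw [univ_three hab hac hbc, Finset.prod_insert (by simp [hab, hac]),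
    Finset.prod_insert (by simp [hbc]), Finset.prod_singleton, mul_assoc]

variable (S : Std q σ f)
include S

theorem torus (hH : ∀ h ∈ su f, Mono h → h ∈ M) (ν : Fin 3 → F) (hν : ∀ a, ν a * σ (ν a) = 1)
    (hprod : ∏ a, ν a = 1) : ∃ t ∈ M, ∀ (y : Fin 3 → F) a, (t ◆ y) a = ν a * y a := by
  obtain ⟨t, hti, hte, htd⟩ := S.exists_mono 1 ν hν
  simp only [Equiv.Perm.coe_one, id_eq] at hte
  refine ⟨t, hH t ⟨hti, (mem_special_iff S).mpr (by simpa [hprod] using htd)⟩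
    (mono_of_perm 1 fun a => ⟨_, hte a⟩), fun y a => ?_⟩
  exact mono_ap_coord (π := 1) (fun a => hte a) y a

/-- Conjugates of the diagonal homologies. -/
theorem hom (hH : ∀ h ∈ su f, Mono h → h ∈ M) (hMG : M ≤ su f) {g : GL (Fin 3) F} (hg : g ∈ M)
    (i : Fin 3) {l : F} (hl : l * σ l = 1) :
    ∃ x ∈ M, ∀ y, x ◆ y = l • y + ((σ l * σ l - l) * f y (g ◆ e i)) • (g ◆ e i) := by
  classical
  obtain ⟨b, c, hib, hic, hbc⟩ := others i
  obtain ⟨t, htM, ht⟩ := torus S hH (Function.update (fun _ => l) i (σ l * σ l)) (fun r => by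
    by_cases h : r = i
    · subst h
      rw [Function.update_self, map_mul, S.inv]
      linear_combination (l * σ l + 1) * hl
    · simpa [h] using hl) (by
    rw [prod_three hib hic hbc]
    simp [hib.symm, hic.symm]
    linear_combination (l * σ l + 1) * hl)
  have hty : ∀ y : Fin 3 → F, t ◆ y = l • y + ((σ l * σ l - l) * y i) • e i := fun y =>
    funext fun r => by
      rw [ht]
      by_cases h : r = i
      · subst h; simp [e]; ring
      · simp [e, h]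
  refine ⟨g * t * g⁻¹, mul_mem (mul_mem hg htM) (inv_mem hg), fun y => ?_⟩
  have hco : ((g⁻¹ : GL (Fin 3) F) ◆ y) i = f y (g ◆ e i) := by
    rw [← S.f_e ((g⁻¹ : GL (Fin 3) F) ◆ y) i, ← mem_isom.mp (hMG hg).1, mulVec_inv_mulVec]
  rw [ap_mul, ap_mul, hty, mulVec_add, mulVec_smul, mulVec_smul, mulVec_inv_mulVec, hco]

theorem pow_facts (h3 : 3 ≤ q) (h5 : q ≠ 5) {ρ : F} (hρ : ρ * σ ρ = 1)
    (hord : ∀ k, 0 < k → ρ ^ k = 1 → q + 1 ≤ k) :
    ρ ^ 3 ≠ 1 ∧ ρ ^ 6 ≠ 1 ∧ (q ≠ 8 → ρ ^ 9 ≠ 1) := by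
  have hq1 : ρ ^ (q + 1) = 1 := (S.norm_eq ρ).symm.trans hρ
  refine ⟨fun h => absurd (hord 3 (by norm_num) h) (by omega), fun h => ?_, fun h8 h => ?_⟩
  · have := hord 6 (by norm_num) h
    rcases (show q = 3 ∨ q = 4 by omega) with rfl | rfl
    · exact absurd (hord 2 (by norm_num) (by linear_combination h - ρ ^ 2 * hq1)) (by omega)
    · exact absurd (hord 1 (by norm_num) (by linear_combination h - ρ * hq1)) (by omega)
  · have := hord 9 (by norm_num) h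
    rcases (show q = 3 ∨ q = 4 ∨ q = 6 ∨ q = 7 by omega) with rfl | rfl | rfl | rfl
    · exact absurd (hord 1 (by norm_num) (by linear_combination h - (ρ ^ 5 + ρ) * hq1)) (by omega)
    · exact absurd (hord 4 (by norm_num) (by linear_combination h - ρ ^ 4 * hq1)) (by omega)
    · exact absurd (hord 2 (by norm_num) (by linear_combination h - ρ ^ 2 * hq1)) (by omega)
    · exact absurd (hord 1 (by norm_num) (by linear_combination h - ρ * hq1)) (by omega)

theorem col_two (NC : NoCoord M) {g : GL (Fin 3) F} (hg : g ∈ M) (hgn : ¬ Mono g) (i a : Fin 3) :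
    ∃ b, b ≠ a ∧ (g ◆ e i) b ≠ 0 := by
  by_contra hc
  simp only [not_exists, not_and, not_not] at hc
  refine hgn (NC g hg i a ((g ◆ e i) a) (funext fun r => ?_))
  by_cases h : r = a
  · subst h; simp [e]
  · simp [e, h, hc r h]

theorem col_norm (hMG : M ≤ su f) {g : GL (Fin 3) F} (hg : g ∈ M) (i : Fin 3) {a b c : Fin 3}
    (hab : a ≠ b) (hac : a ≠ c) (hbc : b ≠ c) :
    (g ◆ e i) a * σ ((g ◆ e i) a) + (g ◆ e i) b * σ ((g ◆ e i) b) +
      (g ◆ e i) c * σ ((g ◆ e i) c) = 1 := by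
  have h := mem_isom.mp (hMG hg).1 (e i) (e i)
  rwa [S.e_e, if_pos rfl, S.sum, sum_three hab hac hbc] at h

theorem no_zero (h3 : 3 ≤ q) (h5 : q ≠ 5) (hH : ∀ h ∈ su f, Mono h → h ∈ M) (hMG : M ≤ su f)
    (NC : NoCoord M) {g : GL (Fin 3) F} (hg : g ∈ M) (hgn : ¬ Mono g) (i m : Fin 3) :
    (g ◆ e i) m ≠ 0 := by
  intro hm
  obtain ⟨ρ, hρ, hord⟩ := S.exists_gen
  obtain ⟨hρ3, hρ6, -⟩ := pow_facts S h3 h5 hρ hord
  obtain ⟨x, hx, hxy⟩ := hom S hH hMG hg i hρ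
  set u := g ◆ e i with hu
  set d := σ ρ * σ ρ - ρ with hd
  have hd0 : d ≠ 0 := fun h => hρ3 (by
    rw [hd] at h; linear_combination (-(ρ * ρ)) * h + (ρ * σ ρ + 1) * hρ)
  obtain ⟨p, μ, hp⟩ := (NC x hx m m ρ (by
    rw [hxy, S.e_f, hm, map_zero, mul_zero, zero_smul, add_zero])).exists_perm
  obtain ⟨a, ham, ha⟩ := col_two S NC hg hgn i m
  obtain ⟨b, hba, hb⟩ := col_two S NC hg hgn i a
  have hbm : b ≠ m := fun h => hb (h ▸ hm)
  have key : ∀ a b, u a ≠ 0 → u b ≠ 0 → b ≠ a → ρ + d * (σ (u a) * u a) = 0 := by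
    intro a b ha hb hba
    have h := (hp a).2.symm.trans (hxy (e a))
    rw [S.e_f] at h
    have hb' := congrFun h b
    have hpb : p a = b := by
      by_contra hne
      simp [e, hba, Ne.symm hne, hd0, ha, hb] at hb'
    have ha' := congrFun h a
    simp [e, hpb, hba.symm] at ha'
    linear_combination -ha'
  have h1 := key a b ha hb hba
  have h2 := key b a hb ha hba.symm
  have hN := col_norm S hMG hg i hba.symm ham hbm
  rw [← hu, hm] at hN
  simp at hN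
  rw [hd] at h1 h2
  have hsum : ρ + σ ρ * σ ρ = 0 := by
    linear_combination h1 + h2 - (σ ρ * σ ρ - ρ) * hN
  exact hρ6 (by
    linear_combination (ρ ^ 3 - 1) * ρ ^ 2 * hsum - (ρ ^ 3 - 1) * (ρ * σ ρ + 1) * hρ)

theorem not_mono_hom (h3 : 3 ≤ q) (h5 : q ≠ 5) (hH : ∀ h ∈ su f, Mono h → h ∈ M) (hMG : M ≤ su f)
    (NC : NoCoord M) {g : GL (Fin 3) F} (hg : g ∈ M) (hgn : ¬ Mono g) (i : Fin 3)
    {x : GL (Fin 3) F} {l d : F} (hd : d ≠ 0)
    (hx : ∀ y, x ◆ y = l • y + (d * f y (g ◆ e i)) • (g ◆ e i)) : ¬ Mono x := by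
  rintro ⟨π, hπ⟩
  have nz := no_zero S h3 h5 hH hMG NC hg hgn i
  have h : ∀ r, r ≠ (0 : Fin 3) → (x ◆ e 0) r ≠ 0 := fun r hr => by
    rw [hx, S.e_f, Pi.add_apply, Pi.smul_apply, Pi.smul_apply, smul_eq_mul, smul_eq_mul,
      show (e 0 : Fin 3 → F) r = 0 by simp [e, hr], mul_zero, zero_add]
    exact mul_ne_zero (mul_ne_zero hd ((map_ne_zero σ).mpr (nz 0))) (nz r)
  have e1 : (1 : Fin 3) = π 0 := by simpa using hπ 0 1 (h 1 (by decide))
  have e2 : (2 : Fin 3) = π 0 := by simpa using hπ 0 2 (h 2 (by decide))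
  exact absurd (e1.trans e2.symm) (by decide)

/-- In the field of order 64 three elements of norm one with any product have a sum whose norm is
neither zero nor one. -/
theorem exists_triple (h8 : q = 8) (h2 : (2 : F) = 0) {P : F} (hP : P * σ P = 1) :
    ∃ w : Fin 3 → F, (∀ r, w r * σ (w r) = 1) ∧ ∏ r, w r = P ∧ (∑ r, w r) ≠ 0 ∧
      (∑ r, w r) * σ (∑ r, w r) ≠ 1 := by
  classical
  obtain ⟨ρ, hρ, hord⟩ := S.exists_gen
  have h9 : ρ ^ 9 = 1 := by
    have := (S.norm_eq ρ).symm.trans hρ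
    rwa [h8] at this
  have hρ0 : ρ ≠ 0 := fun h => by simp [h] at hρ
  have hρ3 : ρ ^ 3 - 1 ≠ 0 := fun h =>
    absurd (hord 3 (by norm_num) (sub_eq_zero.mp h)) (by omega)
  have hS : ρ ^ 6 + ρ ^ 3 + 1 = 0 := (mul_eq_zero.mp
    (show (ρ ^ 3 - 1) * (ρ ^ 6 + ρ ^ 3 + 1) = 0 by linear_combination h9)).resolve_left hρ3
  have hs8 : σ ρ = ρ ^ 8 := by rw [S.pow, h8]
  set c := ρ + σ ρ with hc
  have hc3 : c ^ 3 = 1 + c := by
    rw [hc, hs8]
    linear_combination (3 * ρ + 3 * ρ ^ 8 + ρ ^ 15 + ρ ^ 6) * h9 + hS + (ρ + ρ ^ 8 - 1) * h2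
  have hc0 : c ≠ 0 := fun h => by
    rw [h] at hc3; exact one_ne_zero (α := F) (by linear_combination -hc3)
  have hc1 : c + 1 ≠ 0 := fun h => one_ne_zero (α := F) (by
    rw [show c = -1 by linear_combination h] at hc3
    linear_combination -hc3)
  have good1 : c ^ 2 + c ≠ 0 ∧ c ^ 2 + c ≠ 1 := by
    refine ⟨fun h => ?_, fun h => hc1 (mul_self_eq_zero.mp ?_)⟩
    · rcases mul_eq_zero.mp (show c * (c + 1) = 0 by linear_combination h) with h' | h'
      · exact hc0 h'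
      · exact hc1 h'
    · linear_combination c * h - hc3 + c * h2
  have good2 : (1 + c) * (1 + c) ≠ 0 ∧ (1 + c) * (1 + c) ≠ 1 := by
    refine ⟨mul_ne_zero (by rwa [add_comm]) (by rwa [add_comm]), fun h => hc0 (mul_self_eq_zero.mp ?_)⟩
    linear_combination h - c * h2
  have scale : ∀ (k : ℕ) (t₁ t₂ : F), t₁ * σ t₁ = 1 → t₂ * σ t₂ = 1 →
      ρ ^ (3 * k) * (t₁ * t₂) = P →
      (1 + t₁ + t₂) * σ (1 + t₁ + t₂) ≠ 0 → (1 + t₁ + t₂) * σ (1 + t₁ + t₂) ≠ 1 →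
      ∃ w : Fin 3 → F, (∀ r, w r * σ (w r) = 1) ∧ ∏ r, w r = P ∧ (∑ r, w r) ≠ 0 ∧
        (∑ r, w r) * σ (∑ r, w r) ≠ 1 := by
    intro k t₁ t₂ h1 h2 hp n0 n1
    have hk : ρ ^ k * σ (ρ ^ k) = 1 := by rw [map_pow, ← mul_pow, hρ, one_pow]
    have hn : ∀ t, t * σ t = 1 → (ρ ^ k * t) * σ (ρ ^ k * t) = 1 := fun t ht => by
      rw [map_mul]; linear_combination (t * σ t) * hk + ht
    refine ⟨![ρ ^ k, ρ ^ k * t₁, ρ ^ k * t₂], fun r => ?_, ?_, ?_, ?_⟩
    · fin_cases r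
      · exact hk
      · exact hn t₁ h1
      · exact hn t₂ h2
    · rw [Fin.prod_univ_three]
      simp
      linear_combination hp
    all_goals
      rw [Fin.sum_univ_three]
      simp only [cons_val_zero, cons_val_one, cons_val_two, Nat.succ_eq_add_one, head_cons, tail_cons]
      rw [show ρ ^ k + ρ ^ k * t₁ + ρ ^ k * t₂ = ρ ^ k * (1 + t₁ + t₂) by ring]
    · exact mul_ne_zero (pow_ne_zero _ hρ0) (left_ne_zero_of_mul n0)
    · rw [map_mul]
      intro h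
      exact n1 (by linear_combination h - (1 + t₁ + t₂) * σ (1 + t₁ + t₂) * hk)
  obtain ⟨j, hj, rfl⟩ : ∃ j, j < 9 ∧ ρ ^ j = P := by
    have hinj : Set.InjOn (fun j => ρ ^ j) (Finset.range 9 : Finset ℕ) := by
      intro i hi j hj hij
      simp only [Finset.coe_range, Set.mem_Iio] at hi hj
      rcases lt_trichotomy i j with h | h | h
      · refine absurd (hord (j - i) (by omega) (mul_left_cancel₀ (pow_ne_zero i hρ0) ?_)) (by omega)
        rw [← pow_add, Nat.add_sub_cancel' h.le, mul_one]; exact hij.symm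
      · exact h
      · refine absurd (hord (i - j) (by omega) (mul_left_cancel₀ (pow_ne_zero j hρ0) ?_)) (by omega)
        rw [← pow_add, Nat.add_sub_cancel' h.le, mul_one]; exact hij
    have : (Finset.range 9).image (fun j => ρ ^ j) = S.circ := Finset.eq_of_subset_of_card_le
      (fun x hx => by
        obtain ⟨j, -, rfl⟩ := Finset.mem_image.mp hx
        rw [S.mem_circ, map_pow, ← mul_pow, hρ, one_pow])
      (by rw [Finset.card_image_of_injOn hinj, Finset.card_range, S.card_circ, h8])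
    have hm : P ∈ (Finset.range 9).image (fun j => ρ ^ j) := by rw [this]; exact S.mem_circ.mpr hP
    obtain ⟨j, hj, hjP⟩ := Finset.mem_image.mp hm
    exact ⟨j, Finset.mem_range.mp hj, hjP⟩
  have hρc : σ ρ * σ (σ ρ) = 1 := by rw [S.inv, mul_comm, hρ]
  have hpow : ∀ k, ρ ^ k * σ (ρ ^ k) = 1 := fun k => by rw [map_pow, ← mul_pow, hρ, one_pow]
  rcases (show ∃ i, j = 3 * i ∨ j = 3 * i + 1 ∨ j = 3 * i + 2 from ⟨j / 3, by omega⟩) with
    ⟨i, rfl | rfl | rfl⟩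
  · refine scale i ρ (σ ρ) hρ hρc (by rw [hρ, mul_one]) ?_ ?_ <;>
      rw [show 1 + ρ + σ ρ = 1 + c by rw [hc]; ring, show σ (1 + c) = 1 + c by
        rw [hc, map_add, map_one, map_add, S.inv]; ring]
    · exact good2.1
    · exact good2.2
  · have e9 : ρ ^ (3 * (i + 8)) * (ρ * ρ ^ 3) = ρ ^ (3 * i + 1) := by
      rw [← pow_succ', ← pow_add, show 3 * (i + 8) + (3 + 1) = 3 * i + 1 + 9 * 3 by ring, pow_add,
        pow_mul ρ 9, h9, one_pow, mul_one]
    have hv : (1 + ρ + ρ ^ 3) * σ (1 + ρ + ρ ^ 3) = c ^ 2 + c := by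
      rw [hc, hs8]
      simp only [map_add, map_one, map_pow, hs8]
      linear_combination (ρ ^ 18 + ρ ^ 15 - ρ ^ 7 + ρ ^ 6 + ρ ^ 2 + ρ ^ 9 - 1 + (ρ ^ 16 + ρ ^ 7 + 1)) * h9 + hS
    refine scale (i + 8) ρ (ρ ^ 3) hρ (hpow 3) e9 ?_ ?_ <;> rw [hv]
    · exact good1.1
    · exact good1.2
  · have e9 : ρ ^ (3 * (i + 8)) * (ρ ^ 2 * ρ ^ 3) = ρ ^ (3 * i + 2) := by
      rw [← pow_add, ← pow_add, show 3 * (i + 8) + (2 + 3) = 3 * i + 2 + 9 * 3 by ring, pow_add,
        pow_mul ρ 9, h9, one_pow, mul_one]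
    have hv : (1 + ρ ^ 2 + ρ ^ 3) * σ (1 + ρ ^ 2 + ρ ^ 3) = c ^ 2 + c := by
      rw [hc, hs8]
      simp only [map_add, map_one, map_pow, hs8]
      linear_combination (ρ ^ 18 + ρ ^ 17 + ρ ^ 15 + ρ ^ 9 + ρ ^ 8 + ρ ^ 6 - 1 + (ρ ^ 10 + ρ ^ 9 + ρ + 1)) * h9 + hS
    refine scale (i + 8) (ρ ^ 2) (ρ ^ 3) (hpow 2) (hpow 3) e9 ?_ ?_ <;> rw [hv]
    · exact good1.1
    · exact good1.2

/-- Some non-monomial element has an entry whose norm is not one. -/
theorem exists_col (h3 : 3 ≤ q) (h5 : q ≠ 5) (hH : ∀ h ∈ su f, Mono h → h ∈ M) (hMG : M ≤ su f)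
    (NC : NoCoord M) {g : GL (Fin 3) F} (hg : g ∈ M) (hgn : ¬ Mono g) :
    ∃ g' ∈ M, ¬ Mono g' ∧ ∃ i a, (g' ◆ e i) a * σ ((g' ◆ e i) a) ≠ 1 := by
  classical
  by_contra hcon
  simp only [not_exists, not_and, not_not] at hcon
  have hall := hcon g hg hgn
  have h2 : (2 : F) = 0 := by
    have h := col_norm S hMG hg 0 (a := 0) (b := 1) (c := 2) (by decide) (by decide) (by decide)
    rw [hall, hall, hall] at h
    linear_combination h
  by_cases h8 : q = 8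
  · set u := g ◆ e 0 with hu
    set cr : Fin 3 → F := fun r => u r * (g ◆ e r) 0 with hcr
    have hcn : ∀ r, cr r * σ (cr r) = 1 := fun r => by
      simp only [hcr, map_mul, hu]
      linear_combination ((g ◆ e r) 0 * σ ((g ◆ e r) 0)) * hall 0 r + hall r 0
    have hc0 : ∀ r, cr r ≠ 0 := fun r h => by simpa [h] using hcn r
    obtain ⟨w, hw, hwp, hs0, hs1⟩ := exists_triple S h8 h2 (P := ∏ r, cr r) (by
      rw [map_prod, ← Finset.prod_mul_distrib]
      exact Finset.prod_eq_one fun r _ => hcn r)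
    obtain ⟨t, htM, ht⟩ := torus S hH (fun r => w r / cr r) (fun r => by
      rw [map_div₀, div_mul_div_comm, hw, hcn, one_div_one]) (by
      rw [Finset.prod_div_distrib, hwp, div_self (Finset.prod_ne_zero_iff.mpr fun r _ => hc0 r)])
    have hval : ((g * t * g) ◆ e 0) 0 = ∑ r, w r := by
      rw [ap_mul, ap_mul, ap_eq_sum g (t ◆ _), Finset.sum_apply]
      refine Finset.sum_congr rfl fun r _ => ?_
      rw [Pi.smul_apply, smul_eq_mul, ht, ← hu, mul_assoc,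
        show u r * (g ◆ e r) 0 = cr r from rfl, div_mul_cancel₀ _ (hc0 r)]
    have hy : g * t * g ∈ M := mul_mem (mul_mem hg htM) hg
    have hyn : ¬ Mono (g * t * g) := fun hm => by
      obtain ⟨p, μ, hp⟩ := hm.exists_perm
      have hn := norm_coeff S (hMG hy).1 (hp 0).2
      rw [(hp 0).2] at hval
      by_cases h0 : p 0 = 0
      · simp [e, h0] at hval
        exact hs1 (hval ▸ hn)
      · simp [e, Ne.symm h0] at hval
        exact hs0 hval.symm
    exact hs1 (hval ▸ hcon _ hy hyn 0 0)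
  · obtain ⟨ρ, hρ, hord⟩ := S.exists_gen
    obtain ⟨hρ3, -, hρ9⟩ := pow_facts S h3 h5 hρ hord
    obtain ⟨x, hx, hxy⟩ := hom S hH hMG hg 0 hρ
    have hd0 : σ ρ * σ ρ - ρ ≠ 0 := fun h => hρ3 (by
      linear_combination (-(ρ * ρ)) * h + (ρ * σ ρ + 1) * hρ)
    have h := hcon x hx (not_mono_hom S h3 h5 hH hMG NC hg hgn 0 hd0 hxy) 0 1
    rw [hxy, S.e_f] at h
    rw [Pi.add_apply, Pi.smul_apply, Pi.smul_apply, smul_eq_mul, smul_eq_mul,
      show (e 0 : Fin 3 → F) 1 = 0 by simp [e], mul_zero, zero_add] at h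
    simp only [map_mul, map_sub, S.inv] at h
    have hN : (σ ρ * σ ρ - ρ) * (ρ * ρ - σ ρ) = 1 := by
      linear_combination h - ((σ ρ * σ ρ - ρ) * (ρ * ρ - σ ρ)) *
        (((g ◆ e 0) 1 * σ ((g ◆ e 0) 1)) * hall 0 0 + hall 0 1)
    exact hρ9 h8 (by
      linear_combination (ρ ^ 3 - 1) * ρ ^ 3 * (-hN) + (ρ ^ 3 - 1) *
        ((ρ ^ 3) * (ρ * σ ρ + 2) - ρ ^ 2 * σ ρ ^ 2 - ρ * σ ρ - 1) * hρ + (ρ ^ 3 - 1) * (ρ ^ 3) * h2)

end Cfsg.Agent.SU3Geo98.Lines
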