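import Cfsg.Agent.SU3Geo98.LinesNorm
import Cfsg.Agent.SU3Geo98.LinesCount

/-!
Three orthogonal lines in dimension three: without coordinate images everything is monomial
(helper32).
-/

set_option autoImplicit false
set_option linter.unusedSectionVars false

namespace Cfsg.Agent.SU3Geo98.Lines

open Matrix Cfsg.Agent.MaxSub Cfsg.Agent.HermStab Cfsg.Agent.UDec18
open scoped LinearAlgebra.Projectivization
open Finset (univ)

variable {F : Type*} [Field F] [Fintype F] {q : ℕ}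
variable {σ : F ≃+* F}

local notation:73 g:74 " ◆ " x:73 => (Units.val g) *ᵥ x

/-- An isometry of a non-degenerate plane has an eigenvector. -/
theorem eigen {f : (Fin 3 → F) → (Fin 3 → F) → F} (S : Std q σ f) {ν : F} (hν0 : ν ≠ 0)
    (g : GL (Fin 2) F) (hiso : ∀ x y, f2 σ ν (g ◆ x) (g ◆ y) = f2 σ ν x y) :
    ∃ v : Fin 2 → F, v ≠ 0 ∧ ∃ c : F, c • v = g ◆ v := by
  set A : Matrix (Fin 2) (Fin 2) F := g.1
  have hA : ∀ x i, (A *ᵥ x) i = A i 0 * x 0 + A i 1 * x 1 := fun x i => by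
    simp [mulVec, dotProduct, Fin.sum_univ_two]
  have h00 := hiso ![1, 0] ![1, 0]
  have h10 := hiso ![0, 1] ![1, 0]
  have h01 := hiso ![1, 0] ![0, 1]
  have h11 := hiso ![0, 1] ![0, 1]
  simp only [f2] at h00 h10 h01 h11
  rw [hA, hA] at h00 h11
  rw [hA, hA, hA, hA] at h10 h01
  simp at h00 h10 h01 h11
  set D := A 0 0 * A 1 1 - A 0 1 * A 1 0 with hD
  set T := A 0 0 + A 1 1 with hT
  have hσ0 : D * σ (A 0 0) = A 1 1 := by linear_combination (A 1 1) * h00 - (A 1 0) * h10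
  have hσ1 : D * σ (A 1 1) = A 0 0 := by
    refine mul_right_cancel₀ hν0 ?_
    linear_combination (A 0 0) * h11 - (A 0 1) * h01
  have hDn : D * σ D = 1 := by
    have hdet : (A.transpose * diagonal ![1, ν] * A.map σ).det = ν := by
      have : A.transpose * diagonal ![1, ν] * A.map σ = diagonal ![1, ν] := by
        ext i j
        fin_cases i <;> fin_cases j <;> simp [mul_apply, Fin.sum_univ_two, diagonal]
        · linear_combination h00
        · linear_combination h01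
        · linear_combination h10
        · linear_combination h11
      rw [this, det_diagonal]; simp [Fin.prod_univ_two]
    rw [det_mul, det_mul, det_transpose, det_diagonal, Fin.prod_univ_two, det_fin_two A,
      det_fin_two (A.map σ)] at hdet
    simp at hdet
    refine mul_right_cancel₀ hν0 ?_
    rw [hD, map_sub, map_mul, map_mul]
    linear_combination hdet
  have hD0 : D ≠ 0 := fun h => by simp [h] at hDn
  have hσT : D * σ T = T := by rw [hT, map_add]; linear_combination hσ0 + hσ1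
  obtain ⟨X, hX⟩ : ∃ X : F, X ^ 2 - T * X + D = 0 := by
    by_cases hT0 : T = 0
    · obtain ⟨μ, hμ, hμD⟩ : ∃ μ : F, μ ≠ 0 ∧ D * σ μ = μ := by
        by_cases h1 : 1 + D = 0
        · have hD1 : D = -1 := by linear_combination h1
          obtain ⟨c, hc, hc'⟩ := exists_skew S.uf
          exact ⟨c, hc, by rw [hD1]; linear_combination -hc'⟩
        · exact ⟨1 + D, h1, by rw [map_add, map_one]; linear_combination hDn⟩
      have hσμ : σ μ ≠ 0 := (map_ne_zero σ).mpr hμ
      obtain ⟨Y, hY⟩ := S.exists_root (b := 0) (c := D / μ ^ 2) (map_zero σ) (by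
        rw [map_div₀, map_pow]
        field_simp
        have h1 : D ^ 2 * σ μ ^ 2 = μ ^ 2 := by linear_combination (D * σ μ + μ) * hμD
        linear_combination (D * σ μ ^ 2) * hDn - (σ D) * h1)
      refine ⟨μ * Y, ?_⟩
      rw [hT0]
      field_simp at hY
      linear_combination hY
    · obtain ⟨Y, hY⟩ := S.exists_root (b := -1) (c := D / T ^ 2) (by simp) (by
        have hσT0 : σ T ≠ 0 := (map_ne_zero σ).mpr hT0
        rw [map_div₀, map_pow]
        field_simp
        have h1 : D ^ 2 * σ T ^ 2 = T ^ 2 := by linear_combination (D * σ T + T) * hσT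
        linear_combination (D * σ T ^ 2) * hDn - (σ D) * h1)
      refine ⟨T * Y, ?_⟩
      field_simp at hY
      linear_combination hY
  have hdet0 : (A - X • (1 : Matrix (Fin 2) (Fin 2) F)).det = 0 := by
    rw [det_fin_two]; simp; linear_combination hX
  obtain ⟨v, hv, hAv⟩ := exists_mulVec_eq_zero_iff.mpr hdet0
  refine ⟨v, hv, X, ?_⟩
  rw [sub_mulVec, smul_mulVec, one_mulVec, sub_eq_zero] at hAv
  exact hAv.symm

variable {f : (Fin 3 → F) → (Fin 3 → F) → F} {M : Subgroup (GL (Fin 3) F)}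
variable (S : Std q σ f)
include S

/-- Without coordinate images everything is monomial. -/
theorem all_mono (h3 : 3 ≤ q) (h5 : q ≠ 5) (hH : ∀ h ∈ su f, Mono h → h ∈ M) (hMG : M ≤ su f)
    (NC : NoCoord M) {g₀ : GL (Fin 3) F} (hg₀ : g₀ ∈ M) : Mono g₀ := by
  classical
  by_contra hg₀n
  obtain ⟨g, hg, hgn, i, a, hna⟩ := exists_col S h3 h5 hH hMG NC hg₀ hg₀n
  obtain ⟨b, c, hab, hac, hbc⟩ := others a
  have hnz := no_zero S h3 h5 hH hMG NC hg hgn i
  set u := g ◆ e i with hu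
  have hsum := col_norm S hMG hg i hab hac hbc
  rw [← hu] at hsum
  set ν := u b * σ (u b) + u c * σ (u c) with hν
  have hν0 : ν ≠ 0 := fun h => hna (by linear_combination hsum - h)
  have hσν : σ ν = ν := by rw [hν, map_add, S.norm_real, S.norm_real]
  have hf3 : ∀ x y, f x y = x a * σ (y a) + x b * σ (y b) + x c * σ (y c) := fun x y => by
    rw [S.sum, sum_three hab hac hbc]
  -- the plane and its normal
  set w : Fin 3 → F := two b (σ (u c)) c (-σ (u b)) with hw
  set r : Fin 3 → F := two b (u b) c (u c) with hr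
  have hwa : w a = 0 := by rw [hw, two_apply hbc, if_neg hab, if_neg hac]
  have hwb : w b = σ (u c) := by rw [hw, two_apply hbc, if_pos rfl]
  have hwc : w c = -σ (u b) := by rw [hw, two_apply hbc, if_neg hbc.symm, if_pos rfl]
  have hra : r a = 0 := by rw [hr, two_apply hbc, if_neg hab, if_neg hac]
  have hrb : r b = u b := by rw [hr, two_apply hbc, if_pos rfl]
  have hrc : r c = u c := by rw [hr, two_apply hbc, if_neg hbc.symm, if_pos rfl]
  have hw0 : w ≠ 0 := fun h => hnz c ((map_eq_zero σ).mp (hwb ▸ congrFun h b))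
  let E : (Fin 2 → F) → (Fin 3 → F) := fun z => z 0 • e a + z 1 • r
  let cc : (Fin 3 → F) → (Fin 2 → F) := fun x => ![x a, x b / u b]
  have hEa : ∀ z, E z a = z 0 := fun z => by simp [E, e, hra]
  have hEb : ∀ z, E z b = z 1 * u b := fun z => by simp [E, e, hrb, hab.symm]
  have hEc : ∀ z, E z c = z 1 * u c := fun z => by simp [E, e, hrc, hac.symm]
  have hEsmul : ∀ (s : F) z, E (s • z) = s • E z := fun s z => by
    simp [E, smul_add, smul_smul]
  have hcE : ∀ z, cc (E z) = z := fun z => funext fun j => by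
    fin_cases j
    · exact hEa z
    · show E z b / u b = z 1
      rw [hEb, mul_div_assoc, div_self (hnz b), mul_one]
  have hEinj : Function.Injective E := fun x y h => by rw [← hcE x, ← hcE y, h]
  have hEw : ∀ z, f (E z) w = 0 := fun z => by
    rw [hf3, hwa, hwb, hwc, hEb, hEc, map_neg, S.inv, S.inv, map_zero]; ring
  have hEcc : ∀ x, f x w = 0 → E (cc x) = x := fun x hx => by
    rw [hf3, hwa, hwb, hwc, map_neg, S.inv, S.inv, map_zero] at hx
    funext j
    rcases three_cases a b c j hab hac hbc with rfl | rfl | rfl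
    · exact hEa _
    · rw [hEb]; exact div_mul_cancel₀ _ (hnz _)
    · rw [hEc]
      show x b / u b * u _ = x _
      have := hnz b
      field_simp
      linear_combination hx
  have hB : ∀ y z, f (E y) (E z) = f2 σ ν y z := fun y z => by
    rw [hf3, hEa, hEb, hEc, hEa, hEb, hEc, map_mul, map_mul, hν, f2]; ring
  have hEu : E ![u a, 1] = u := funext fun j => by
    rcases three_cases a b c j hab hac hbc with rfl | rfl | rfl
    · exact hEa _
    · rw [hEb]; simp
    · rw [hEc]; simp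
  have hwu : f w u = 0 := hswap_zero S.uf (hEu ▸ hEw _)
  set B := f2 σ ν with hBdef
  have Bsl : ∀ (s : F) x y, B (s • x) y = s * B x y := fun s x y => by simp [B, f2]; ring
  have Bsr : ∀ (s : F) x y, B x (s • y) = σ s * B x y := fun s x y => by simp [B, f2]; ring
  have Bal : ∀ x x' y, B (x + x') y = B x y + B x' y := fun x x' y => by simp [B, f2]; ring
  -- the group on the plane
  let L : Subgroup (GL (Fin 2) F) :=
    { carrier := {A | ∃ y ∈ M, (∃ k : F, y ◆ w = k • w) ∧ ∀ z, y ◆ E z = E (A ◆ z)}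
      one_mem' := ⟨1, one_mem _, ⟨1, by simp⟩, fun z => by simp⟩
      mul_mem' := fun {A A'} ⟨y, hy, ⟨k, hk⟩, hyz⟩ ⟨y', hy', ⟨k', hk'⟩, hyz'⟩ =>
        ⟨y * y', mul_mem hy hy', ⟨k' * k, by rw [ap_mul, hk', mulVec_smul, hk, smul_smul]⟩,
          fun z => by rw [ap_mul, hyz', hyz, ap_mul]⟩
      inv_mem' := fun {A} ⟨y, hy, ⟨k, hk⟩, hyz⟩ => by
        have hk0 : k ≠ 0 := fun h => mulVec_ne_zero y hw0 (by rw [hk, h, zero_smul])
        refine ⟨y⁻¹, inv_mem hy, ⟨k⁻¹, mulVec_injective y ?_⟩, fun z => mulVec_injective y ?_⟩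
        · show y ◆ ((y⁻¹ : GL (Fin 3) F) ◆ w) = y ◆ (k⁻¹ • w)
          rw [mulVec_inv_mulVec, mulVec_smul, hk, smul_smul, inv_mul_cancel₀ hk0, one_smul]
        · show y ◆ ((y⁻¹ : GL (Fin 3) F) ◆ E z) = y ◆ E ((A⁻¹ : GL (Fin 2) F) ◆ z)
          rw [mulVec_inv_mulVec, hyz, mulVec_inv_mulVec] }
  have ofM : ∀ y ∈ M, (∃ k : F, y ◆ w = k • w) → ∃ A ∈ L, ∀ z, y ◆ E z = E (A ◆ z) := by
    rintro y hy ⟨k, hk⟩
    have hk0 : k ≠ 0 := fun h => mulVec_ne_zero y hw0 (by rw [hk, h, zero_smul])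
    have hperp : ∀ z, f (y ◆ E z) w = 0 := fun z => by
      have h := mem_isom.mp (hMG hy).1 (E z) w
      rw [hk, hsmul_right S.uf, hEw] at h
      exact (mul_eq_zero.mp h).resolve_left ((map_ne_zero σ).mpr hk0)
    set A : Matrix (Fin 2) (Fin 2) F :=
      Matrix.of fun j l => ![cc (y ◆ e a) j, cc (y ◆ r) j] l with hA
    have hAz : ∀ z, y ◆ E z = E (A *ᵥ z) := fun z => by
      rw [← hEcc _ (hperp z)]
      congr 1
      funext j
      simp only [hA, mulVec, dotProduct, Fin.sum_univ_two, of_apply, cons_val_zero, cons_val_one]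
      rw [show y ◆ E z = z 0 • (y ◆ e a) + z 1 • (y ◆ r) by
        simp only [E, mulVec_add, mulVec_smul]]
      fin_cases j <;> simp [cc] <;> ring
    have hdet : A.det ≠ 0 := fun h => by
      obtain ⟨z, hz, hz0⟩ := Matrix.exists_mulVec_eq_zero_iff.mpr h
      have h1 := hAz z
      rw [hz0, show E 0 = 0 by simp [E]] at h1
      refine hz (hEinj ?_)
      rw [show E 0 = 0 by simp [E]]
      exact mulVec_injective y (h1.trans (mulVec_zero _).symm)
    exact ⟨GeneralLinearGroup.mkOfDetNeZero A hdet, ⟨y, hy, ⟨k, hk⟩, hAz⟩, hAz⟩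
  have hiso : ∀ A ∈ L, ∀ x z, B (A ◆ x) (A ◆ z) = B x z := by
    rintro A ⟨y, hy, -, hyz⟩ x z
    rw [← hB, ← hB, ← hyz, ← hyz, mem_isom.mp (hMG hy).1]
  -- points
  have he0 : (![1, 0] : Fin 2 → F) ≠ 0 := fun h => by simpa using congrFun h 0
  have he1 : (![0, 1] : Fin 2 → F) ≠ 0 := fun h => by simpa using congrFun h 1
  let pt : ∀ v : Fin 2 → F, v ≠ 0 → ℙ F (Fin 2 → F) := fun v hv => Projectivization.mk F v hv
  set e0 := pt ![1, 0] he0
  set e1 := pt ![0, 1] he1
  have : Fintype (ℙ F (Fin 2 → F)) := Fintype.ofFinite _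
  have hfix' : ∀ (A : L) v (hv : v ≠ 0), A • pt v hv = pt v hv ↔
      ∃ c : F, c • v = A.1 ◆ v := fun A v hv => smul_mk_eq_iff A.1 hv
  let Z : Subgroup L :=
    { carrier := {A | ∃ c : F, ∀ x, A.1 ◆ x = c • x}
      one_mem' := ⟨1, fun x => by simp⟩
      mul_mem' := fun {g h} ⟨α, hα⟩ ⟨β, hβ⟩ => ⟨α * β, fun x => by
        rw [Subgroup.coe_mul, Units.val_mul, ← mulVec_mulVec, hβ, mulVec_smul, hα, smul_smul,
          mul_comm]⟩
      inv_mem' := fun {g} ⟨α, hα⟩ => ⟨α⁻¹, fun x => by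
        have hα0 : α ≠ 0 := fun h => mulVec_ne_zero g.1 he0 (by rw [hα, h, zero_smul])
        refine mulVec_injective g.1 ?_
        show g.1 ◆ ((g.1⁻¹ : GL (Fin 2) F) ◆ x) = g.1 ◆ (α⁻¹ • x)
        rw [mulVec_inv_mulVec, mulVec_smul, hα, smul_smul, inv_mul_cancel₀ hα0, one_smul]⟩ }
  have hZfix : ∀ A ∈ Z, ∀ x : ℙ F (Fin 2 → F), A • x = x := by
    rintro A ⟨s, hs⟩ x
    rw [← x.mk_rep]
    exact (hfix' A _ x.rep_nonzero).mpr ⟨s, (hs _).symm⟩
  -- `e1` is not in the orbit of `e0`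
  have hee : e1 ∉ MulAction.orbit L e0 := by
    rintro ⟨⟨A, hAL⟩, hA⟩
    obtain ⟨y, hy, -, hyz⟩ := id hAL
    obtain ⟨s, hs⟩ := (Projectivization.mk_eq_mk_iff' F _ _ (mulVec_ne_zero A he0) he1).mp hA
    have hya : y ◆ e a = s • r := by
      have h := hyz ![1, 0]
      rw [show A ◆ (![1, 0] : Fin 2 → F) = s • ![0, 1] from hs.symm, hEsmul] at h
      simpa [E] using h
    have hym : Mono y := by
      by_contra hym
      exact no_zero S h3 h5 hH hMG NC hy hym a a (by rw [hya]; simp [hra])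
    obtain ⟨p, μ, hp⟩ := hym.exists_perm
    have hμ := (hp a).2.symm.trans hya
    have hpa : ∀ j, r j ≠ 0 → p a = j := fun j hj => by
      by_contra hne
      have h := congrFun hμ j
      simp [e, Ne.symm hne, hj] at h
      exact (hp a).1 (by rw [h, zero_smul] at hμ; simpa [e] using congrFun hμ (p a))
    exact hbc ((hpa b (by rw [hrb]; exact hnz b)).symm.trans (hpa c (by rw [hrc]; exact hnz c)))
  -- orthogonal lines are fixed together
  have perp_line : ∀ A ∈ L, ∀ v v' : Fin 2 → F, B v v ≠ 0 → B v' v = 0 → v' ≠ 0 →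
      (∃ s : F, s • v = A ◆ v) → ∃ s : F, s • v' = A ◆ v' := by
    rintro A hA v v' hvv hperp hv' ⟨s, hs⟩
    have hs0 : s ≠ 0 := fun h => hvv (by
      rw [← hiso A hA v v, ← hs, h, Bsl, zero_mul])
    have h := hiso A hA v' v
    rw [← hs, Bsr, hperp] at h
    have h0 : B (A ◆ v') v = 0 := (mul_eq_zero.mp h).resolve_left ((map_ne_zero σ).mpr hs0)
    have hv0 : v ≠ 0 := fun h => hvv (by simp [B, f2, h])
    have hind : ∀ t : F, t • v ≠ v' := fun t h => by
      rw [← h, Bsl] at hperp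
      rcases mul_eq_zero.mp hperp with ht | ht
      · exact hv' (by rw [← h, ht, zero_smul])
      · exact hvv ht
    obtain ⟨α, β, hαβ⟩ := mem_pair hv0 hind (A ◆ v')
    rw [← hαβ, Bal, Bsl, Bsl, hperp, mul_zero, add_zero] at h0
    exact ⟨β, by rw [← hαβ, (mul_eq_zero.mp h0).resolve_right hvv, zero_smul, zero_add]⟩
  have hst : MulAction.stabilizer L e1 = MulAction.stabilizer L e0 := by
    ext A
    simp only [MulAction.mem_stabilizer_iff, e0, e1, hfix']
    exact ⟨perp_line A.1 A.2 _ _ (by simpa [B, f2] using hν0) (by simp [B, f2]) he0,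
      perp_line A.1 A.2 _ _ (by simp [B, f2]) (by simp [B, f2]) he1⟩
  obtain ⟨ρ, hρ, hord⟩ := S.exists_gen
  have hρ0 : ρ ≠ 0 := fun h => by simp [h] at hρ
  obtain ⟨hρ3, hρ6, hρ9⟩ := pow_facts S h3 h5 hρ hord
  -- diagonal elements
  have diag : ∀ j : ℕ, ∃ A : L, ∀ z, A.1 ◆ z = ![σ (ρ ^ j) * σ (ρ ^ j) * z 0, ρ ^ j * z 1] := by
    intro j
    have hl : ρ ^ j * σ (ρ ^ j) = 1 := by rw [map_pow, ← mul_pow, hρ, one_pow]
    obtain ⟨y, hy, hyx⟩ := hom S hH hMG (one_mem M) a hl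
    simp only [Units.val_one, one_mulVec, S.f_e] at hyx
    obtain ⟨A, hA, hAz⟩ := ofM y hy ⟨ρ ^ j, by rw [hyx, hwa, mul_zero, zero_smul, add_zero]⟩
    refine ⟨⟨A, hA⟩, fun z => hEinj ?_⟩
    show E (A ◆ z) = _
    rw [← hAz, hyx, hEa]
    simp only [E, cons_val_zero, cons_val_one]
    module
  choose D hD using diag
  set m := if q = 8 then 3 else 4 with hm
  have hdiff : ∀ i j : ℕ, i < j → j < m → ρ ^ (3 * j) ≠ ρ ^ (3 * i) := by
    intro i j hij hjm h
    have h' : ρ ^ (3 * (j - i)) = 1 := mul_left_cancel₀ (pow_ne_zero (3 * i) hρ0) (by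
      rw [← pow_add, ← Nat.mul_add, Nat.add_sub_cancel' hij.le, mul_one]; exact h)
    rcases (show j - i = 1 ∨ j - i = 2 ∨ (j - i = 3 ∧ q ≠ 8) by
      rw [hm] at hjm; split_ifs at hjm with h8 <;> omega) with hd | hd | ⟨hd, h8⟩ <;> rw [hd] at h'
    · exact hρ3 h'
    · exact hρ6 h'
    · exact hρ9 h8 h'
  have hcard : m * Nat.card Z ≤ Nat.card (MulAction.stabilizer L e0) := by
    rw [show m = Nat.card (Fin m) by simp, ← Nat.card_prod]
    refine Nat.card_le_card_of_injective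
      (fun p => (⟨D p.1 * p.2.1, MulAction.mem_stabilizer_iff.mpr (by
        rw [mul_smul, hZfix _ p.2.2]
        refine (hfix' _ _ he0).mpr ⟨σ (ρ ^ (p.1 : ℕ)) * σ (ρ ^ (p.1 : ℕ)), ?_⟩
        rw [hD]; funext l; fin_cases l <;> simp)⟩ : MulAction.stabilizer L e0)) ?_
    rintro ⟨i, ⟨A, s, hs⟩⟩ ⟨j, ⟨A', s', hs'⟩⟩ h
    have h0 := congrArg (fun g : GL (Fin 2) F => g ◆ (![1, 1] : Fin 2 → F))
      (congrArg Subtype.val (Subtype.ext_iff.mp h))
    simp only [Subgroup.coe_mul, Units.val_mul, ← mulVec_mulVec, hD, hs, hs'] at h0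
    have ha0 := congrFun h0 0
    have hb0 := congrFun h0 1
    simp at ha0 hb0
    have hs0 : s ≠ 0 := fun h => mulVec_ne_zero A.1 he0 (by rw [hs, h, zero_smul])
    have hij : i = j := by
      have key : ρ ^ (3 * (j : ℕ)) = ρ ^ (3 * (i : ℕ)) := by
        have hi : ρ ^ (i : ℕ) * σ ρ ^ (i : ℕ) = 1 := by rw [← mul_pow, hρ, one_pow]
        have hj : ρ ^ (j : ℕ) * σ ρ ^ (j : ℕ) = 1 := by rw [← mul_pow, hρ, one_pow]
        have hi0 : ρ ^ (i : ℕ) ≠ 0 := pow_ne_zero _ hρ0
        have hj0 : ρ ^ (j : ℕ) ≠ 0 := pow_ne_zero _ hρ0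
        rw [eq_inv_of_mul_eq_one_right hi, eq_inv_of_mul_eq_one_right hj] at ha0
        field_simp at ha0
        rw [pow_mul', pow_mul']
        refine mul_left_cancel₀ hs0 ?_
        linear_combination (ρ ^ (j : ℕ)) * ha0 - (ρ ^ (i : ℕ)) ^ 2 * hb0
      refine Fin.ext ?_
      rcases lt_trichotomy (i : ℕ) j with hlt | heq | hlt
      · exact absurd key (hdiff _ _ hlt j.2)
      · exact heq
      · exact absurd key.symm (hdiff _ _ hlt i.2)
    subst hij
    exact Prod.ext rfl (Subtype.ext (mul_left_cancel (Subtype.ext_iff.mp h)))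
  -- the conjugated homology moves `e0`
  have hmv : ∃ A : L, A • e0 ≠ e0 := by
    obtain ⟨x, hx, hxy⟩ := hom S hH hMG hg i hρ
    obtain ⟨A, hA, hAz⟩ := ofM x hx ⟨ρ, by rw [hxy, hwu, mul_zero, zero_smul, add_zero]⟩
    refine ⟨⟨A, hA⟩, fun h => ?_⟩
    obtain ⟨s, hs⟩ := (hfix' _ _ he0).mp h
    have h1 := hAz ![1, 0]
    rw [show A ◆ (![1, 0] : Fin 2 → F) = s • ![1, 0] from hs.symm, hEsmul,
      show E ![1, 0] = e a by simp [E], hxy, S.e_f, ← hu] at h1
    have h2 := congrFun h1 b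
    rw [Pi.add_apply, Pi.smul_apply, Pi.smul_apply, Pi.smul_apply, smul_eq_mul, smul_eq_mul,
      smul_eq_mul, show (e a : Fin 3 → F) b = 0 by simp [e, hab.symm], mul_zero, mul_zero,
      zero_add] at h2
    refine mul_ne_zero (mul_ne_zero (fun h => hρ3 ?_) ((map_ne_zero σ).mpr (hnz a))) (hnz b) h2
    linear_combination (-(ρ * ρ)) * h + (ρ * σ ρ + 1) * hρ
  -- fixed points
  have two_fix : ∀ A : L, ∀ v₁ v₂ (h₁ : v₁ ≠ 0) (h₂ : v₂ ≠ 0) (s : F), pt v₁ h₁ ≠ pt v₂ h₂ →
      s • v₁ = A.1 ◆ v₁ → s • v₂ = A.1 ◆ v₂ → A ∈ Z := by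
    intro A v₁ v₂ h₁ h₂ s d12 f1 f2'
    have hind : ∀ t : F, t • v₁ ≠ v₂ := fun t h => d12
      ((Projectivization.mk_eq_mk_iff' F _ _ h₂ h₁).mpr ⟨t, h⟩).symm
    refine ⟨s, fun x => ?_⟩
    obtain ⟨α, β, rfl⟩ := mem_pair h₁ hind x
    rw [mulVec_add, mulVec_smul, mulVec_smul, ← f1, ← f2']
    module
  have three : ∀ A : L, A ∉ Z → Nat.card {x : ℙ F (Fin 2 → F) // A • x = x} ≤ 2 := by
    intro A hAZ
    by_contra h
    simp only [Nat.card_eq_fintype_card, Fintype.card_subtype, not_le] at h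
    obtain ⟨x, y, z, hx, hy, hz, hxy, hxz, hyz⟩ := Finset.two_lt_card_iff.mp h
    simp only [Finset.mem_filter, Finset.mem_univ, true_and] at hx hy hz
    rw [← x.mk_rep] at hx hxy hxz
    rw [← y.mk_rep] at hy hxy hyz
    rw [← z.mk_rep] at hz hxz hyz
    obtain ⟨s, hs⟩ := (hfix' A _ x.rep_nonzero).mp hx
    obtain ⟨t, ht⟩ := (hfix' A _ y.rep_nonzero).mp hy
    obtain ⟨k, hk⟩ := (hfix' A _ z.rep_nonzero).mp hz
    have hind : ∀ c : F, c • x.rep ≠ y.rep := fun c h => hxy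
      ((Projectivization.mk_eq_mk_iff' F _ _ y.rep_nonzero x.rep_nonzero).mpr ⟨c, h⟩).symm
    obtain ⟨α, β, hzr⟩ := mem_pair x.rep_nonzero hind z.rep
    have hα : α ≠ 0 := fun h => hyz ((Projectivization.mk_eq_mk_iff' F _ _ z.rep_nonzero
      y.rep_nonzero).mpr ⟨β, by rw [← hzr, h, zero_smul, zero_add]⟩).symm
    have hβ : β ≠ 0 := fun h => hxz ((Projectivization.mk_eq_mk_iff' F _ _ z.rep_nonzero
      x.rep_nonzero).mpr ⟨α, by rw [← hzr, h, zero_smul, add_zero]⟩).symm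
    have e : (α * (k - s)) • x.rep + (β * (k - t)) • y.rep = 0 := by
      have h := hk
      rw [← hzr, mulVec_add, mulVec_smul, mulVec_smul, ← hs, ← ht, ← sub_eq_zero] at h
      rw [← h]; module
    have hli : LinearIndependent F ![x.rep, y.rep] :=
      (LinearIndependent.pair_iff' x.rep_nonzero).2 hind
    obtain ⟨e1', e2'⟩ := LinearIndependent.pair_iff.mp hli _ _ e
    have hks : k = s := sub_eq_zero.mp ((mul_eq_zero.mp e1').resolve_left hα)
    have hkt : k = t := sub_eq_zero.mp ((mul_eq_zero.mp e2').resolve_left hβ)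
    rw [← hks] at hs
    rw [← hkt] at ht
    exact hAZ (two_fix A _ _ x.rep_nonzero y.rep_nonzero k hxy hs ht)
  have hex : ∀ A : L, A ∉ Z → ∃ x : ℙ F (Fin 2 → F), A • x = x := fun A _ => by
    obtain ⟨v, hv, hs⟩ := eigen S hν0 A.1 (hiso A.1 A.2)
    exact ⟨pt v hv, (hfix' A v hv).mpr hs⟩
  have hsq : 4 ≤ m ∨ ∀ A : L, A ∉ Z → A * A ∈ Z →
      Nat.card {x : ℙ F (Fin 2 → F) // A • x = x} ≤ 1 := by
    by_cases h8 : q = 8
    swap
    · exact Or.inl (by rw [hm, if_neg h8])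
    refine Or.inr fun A hAZ ⟨k, hk⟩ => ?_
    have h2 : (2 : F) = 0 := by
      have := FiniteField.cast_card_eq_zero (K := F)
      rw [S.card, h8] at this
      exact eq_zero_of_pow_eq_zero (n := 6) (by push_cast at this; linear_combination this)
    by_contra h
    simp only [Nat.card_eq_fintype_card, Fintype.card_subtype, not_le] at h
    obtain ⟨x, hx, y, hy, hxy⟩ := Finset.one_lt_card.mp h
    simp only [Finset.mem_filter, Finset.mem_univ, true_and] at hx hy
    rw [← x.mk_rep] at hx hxy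
    rw [← y.mk_rep] at hy hxy
    obtain ⟨s, hs⟩ := (hfix' A _ x.rep_nonzero).mp hx
    obtain ⟨t, ht⟩ := (hfix' A _ y.rep_nonzero).mp hy
    have sq : ∀ (v : Fin 2 → F) (s : F), v ≠ 0 → s • v = A.1 ◆ v → s * s = k := fun v s hv hs => by
      have h := hk v
      rw [Subgroup.coe_mul, Units.val_mul, ← mulVec_mulVec, ← hs, mulVec_smul, ← hs,
        smul_smul] at h
      exact smul_left_injective F hv h
    have hst' : s = t := sub_eq_zero.mp (mul_self_eq_zero.mp (by
      linear_combination sq _ _ x.rep_nonzero hs - sq _ _ y.rep_nonzero ht + (t * t - s * t) * h2))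
    subst hst'
    exact hAZ (two_fix A _ _ x.rep_nonzero y.rep_nonzero s hxy hs ht)
  exact count_false Z e0 e1 m (by rw [hm]; split_ifs <;> omega) hZfix hee hst hcard hmv three hex hsq

end Cfsg.Agent.SU3Geo98.Lines
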